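import Groth.Agent.AVLib.Deg.Compare
import Groth.Agent.CurveLib.GlobalFun
import Groth.Agent.RegHomLib.Basic
import Groth.Agent.GorLib.Faltings
import Groth.Agent.S14670
import Groth.Agent.S4574
import Mathlib.AlgebraicGeometry.Morphisms.FlatRank

/-!
# Finite endomorphisms of smooth varieties are flat, with rank the degree
-/

set_option autoImplicit false
set_option backward.isDefEq.respectTransparency false

universe u

open CategoryTheory AlgebraicGeometry TopologicalSpace Opposite

noncomputable section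

namespace Groth.Agent.AVLib.Deg

/-- Miracle flatness for regular domains. -/
theorem flat_of_regular_domains (R B : Type u) [CommRing R] [CommRing B] [IsRegularRing R] [IsRegularRing B]
    [IsDomain R] [IsDomain B] [Algebra R B] [Module.Finite R B] (hinj : Function.Injective (algebraMap R B)) :
    Module.Flat R B := by
  refine Module.flat_of_localized_maximal B fun P _ => ?_
  let RP := Localization.AtPrime P
  let M := Algebra.algebraMapSubmonoid B P.primeCompl
  let BP := Localization M
  have hM : M ≤ nonZeroDivisors B := by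
    rintro _ ⟨x, hx, rfl⟩
    exact mem_nonZeroDivisors_of_ne_zero ((map_ne_zero_iff _ hinj).2 fun h => hx (h ▸ P.zero_mem))
  haveI : IsDomain BP := IsLocalization.isDomain_localization hM
  haveI : IsRegularRing BP := S4574.isRegularRing_of_isLocalization M BP
  haveI : Module.Finite RP BP := Module.Finite.of_isLocalization R B P.primeCompl
  have hi : Function.Injective (algebraMap RP BP) := (injective_iff_map_eq_zero _).2 fun x hx => by
    obtain ⟨⟨r, s⟩, hrs⟩ := IsLocalization.surj P.primeCompl x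
    have h1 := congrArg (algebraMap RP BP) hrs
    rw [map_mul, hx, zero_mul, ← IsScalarTower.algebraMap_apply, IsScalarTower.algebraMap_apply R B BP,
      eq_comm, map_eq_zero_iff _ (IsLocalization.injective BP hM), map_eq_zero_iff _ hinj] at h1
    rw [h1, map_zero, (IsLocalization.map_units RP s).mul_left_eq_zero] at hrs
    exact hrs
  haveI : Module.Flat RP BP := S14670.result RP BP hi fun q _ =>
    (GorLib.cohenMacaulayRing_of_regular BP).isCohenMacaulayLocalRing_localization q
  haveI : Module.Flat R BP := Module.Flat.trans R RP BP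
  exact Module.Flat.of_linearEquiv
    (IsLocalizedModule.iso P.primeCompl (IsScalarTower.toAlgHom R B BP).toLinearMap)

/-- The rank of a finite flat algebra of domains. -/
theorem rankAtStalk_bot (R B : Type u) [CommRing R] [CommRing B] [IsDomain R] [Algebra R B]
    [Module.Finite R B] : Module.rankAtStalk (R := R) B ⟨⊥, Ideal.isPrime_bot⟩ = Module.finrank R B := by
  have hle : (⊥ : Ideal R).primeCompl ≤ nonZeroDivisors R := fun x hx =>
    mem_nonZeroDivisors_of_ne_zero fun h => hx (h ▸ (⊥ : Ideal R).zero_mem)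
  show Module.finrank (Localization.AtPrime (⊥ : Ideal R)) (LocalizedModule (⊥ : Ideal R).primeCompl B) = _
  rw [IsLocalization.finrank_eq (Localization.AtPrime (⊥ : Ideal R)) (⊥ : Ideal R).primeCompl hle]
  exact IsLocalizedModule.finrank_eq (⊥ : Ideal R).primeCompl
    (LocalizedModule.mkLinearMap (⊥ : Ideal R).primeCompl B) hle

attribute [local instance] Curv2.stalkAlgebra

variable (k : Type u) [Field k] {X : Scheme.{u}} [X.Over (Spec (CommRingCat.of k))] [IsIntegral X]
  [Smooth (X ↘ Spec (CommRingCat.of k))] (f : X ⟶ X) [Surjective f] [IsFinite f]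

include k in
theorem isRegularRing_sections {U : X.Opens} (hU : IsAffineOpen U) : IsRegularRing Γ(X, U) := by
  have h := HasRingHomProperty.appLE (P := @Smooth) (X ↘ Spec (CommRingCat.of k)) inferInstance
    ⟨⊤, isAffineOpen_top _⟩ ⟨U, hU⟩ le_top
  let ψ : k →+* Γ(X, U) :=
    ((X ↘ Spec (CommRingCat.of k)).appLE ⊤ U le_top).hom.comp (Scheme.ΓSpecIso (CommRingCat.of k)).inv.hom
  have hψ : ψ.Smooth := RingHom.Smooth.respectsIso.2 _
    (Scheme.ΓSpecIso (CommRingCat.of k)).symm.commRingCatIsoToRingEquiv h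
  algebraize [ψ]
  exact RegHomLib.isRegularRing_of_smooth k Γ(X, U)

theorem nonempty_preimage {V : X.Opens} (h : genericPoint X ∈ V) : genericPoint X ∈ f ⁻¹ᵁ V :=
  show f (genericPoint X) ∈ V from (genericPoint_fixed f).symm ▸ h

theorem app_injective {V : X.Opens} (h : genericPoint X ∈ V) :
    Function.Injective (f.app V) := fun a b hab => by
  haveI : Nonempty V := ⟨⟨_, h⟩⟩
  have e1 := ffMap_germ f (genericPoint_fixed f) h a
  have e2 := ffMap_germ f (genericPoint_fixed f) h b
  rw [hab, ← e2] at e1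
  exact X.germToFunctionField_injective V ((ffMap f (genericPoint_fixed f)).injective e1)

include k in
theorem flat_app {V : X.Opens} (hV : IsAffineOpen V) (h : genericPoint X ∈ V) : (f.app V).hom.Flat := by
  have hU : IsAffineOpen (f ⁻¹ᵁ V) := hV.preimage f
  haveI : Nonempty V := ⟨⟨_, h⟩⟩
  haveI : Nonempty (f ⁻¹ᵁ V) := ⟨⟨_, nonempty_preimage f h⟩⟩
  haveI := isRegularRing_sections k hV
  haveI := isRegularRing_sections k hU
  algebraize [(f.app V).hom]
  haveI : Module.Finite Γ(X, V) Γ(X, f ⁻¹ᵁ V) := IsFinite.finite_app f V hV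
  exact flat_of_regular_domains _ _ (app_injective f h)

include k in
theorem flat_endo : Flat f := by
  refine (IsZariskiLocalAtTarget.iff_of_iSup_eq_top (P := @Flat) (fun V : X.affineOpens => V.1)
    (iSup_affineOpens_eq_top X)).2 fun V => ?_
  haveI : IsAffine (V.1 : Scheme.{u}) := V.2
  haveI : IsAffine (f ⁻¹ᵁ V.1 : Scheme.{u}) := V.2.preimage f
  rw [HasRingHomProperty.iff_of_isAffine (P := @Flat)]
  by_cases h : genericPoint X ∈ V.1
  · have e := arrowResLEAppIso f V.1 (f ⁻¹ᵁ V.1) le_rfl
    have h' := flat_app k f V.2 h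
    rw [Scheme.Hom.app_eq_appLE] at h'
    rw [← Scheme.Hom.resLE_eq_morphismRestrict]
    haveI := RingHom.toMorphismProperty_respectsIso_iff.1 RingHom.Flat.respectsIso
    exact (MorphismProperty.arrow_mk_iso_iff (RingHom.toMorphismProperty RingHom.Flat) e).2 h'
  · haveI : IsEmpty (V.1 : Scheme.{u}) := ⟨fun x => h (mem_of_open x.2)⟩
    haveI : IsEmpty (f ⁻¹ᵁ V.1 : Scheme.{u}) := ⟨fun x => h (mem_of_open (show f x.1 ∈ V.1 from x.2))⟩
    exact HasRingHomProperty.appTop (P := @Flat) (f ∣_ V.1) inferInstance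

variable (hf : f ≫ (X ↘ Spec (CommRingCat.of k)) = X ↘ Spec (CommRingCat.of k))

/-- The rank is the degree of the function field extension. -/
theorem finrank_eq_degree [Flat f] (a : X) :
    Scheme.Hom.finrank f a = Module.finrank (ffHom f (genericPoint_fixed f) hf).fieldRange X.functionField := by
  haveI : IsLocallyNoetherian X := LocallyOfFiniteType.isLocallyNoetherian (X ↘ Spec (CommRingCat.of k))
  haveI : LocallyOfFinitePresentation f := inferInstance
  haveI : PreconnectedSpace X := inferInstance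
  rw [f.isLocallyConstant_finrank.apply_eq_of_preconnectedSpace a (genericPoint X)]
  obtain ⟨_, ⟨V, hV, rfl⟩, hη, -⟩ :=
    X.isBasis_affineOpens.exists_subset_of_mem_open (Set.mem_univ (genericPoint X)) isOpen_univ
  have hV : IsAffineOpen V := hV
  have hU : IsAffineOpen (f ⁻¹ᵁ V) := hV.preimage f
  haveI : Nonempty V := ⟨⟨_, hη⟩⟩
  haveI : Nonempty (f ⁻¹ᵁ V) := ⟨⟨_, nonempty_preimage f hη⟩⟩
  have hpb : IsPullback hU.fromSpec (Spec.map (f.appLE V (f ⁻¹ᵁ V) le_rfl)) f hV.fromSpec :=
    (IsOpenImmersion.isPullback _ _ _ _ (hV.SpecMap_appLE_fromSpec f hU le_rfl).symm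
      (by rw [hU.opensRange_fromSpec, hV.opensRange_fromSpec])).flip
  let p : Spec Γ(X, V) := ⟨⊥, Ideal.isPrime_bot⟩
  have hp : hV.fromSpec p = genericPoint X := by
    refine Eq.trans ?_ (hV.fromSpec_primeIdealOf ⟨genericPoint X, hη⟩)
    congr 1
    rw [hV.primeIdealOf_genericPoint, genericPoint_eq_bot_of_affine]
    rfl
  refine (congrArg (Scheme.Hom.finrank f) hp.symm).trans ?_
  rw [← Scheme.Hom.finrank_of_isPullback _ _ _ _ hpb p]
  letI : Algebra Γ(X, V) Γ(X, f ⁻¹ᵁ V) := (f.appLE V (f ⁻¹ᵁ V) le_rfl).hom.toAlgebra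
  haveI : Module.Finite Γ(X, V) Γ(X, f ⁻¹ᵁ V) := by
    have h := IsFinite.finite_app f V hV
    rw [Scheme.Hom.app_eq_appLE] at h
    exact h
  have hflat : (f.appLE V (f ⁻¹ᵁ V) le_rfl).hom.Flat :=
    Flat.flat_appLE f hV hU le_rfl
  haveI : Module.Flat Γ(X, V) Γ(X, f ⁻¹ᵁ V) := hflat
  refine (Scheme.Hom.finrank_SpecMap_algebraMap Γ(X, V) Γ(X, f ⁻¹ᵁ V) p).trans ?_
  refine (rankAtStalk_bot Γ(X, V) Γ(X, f ⁻¹ᵁ V)).trans ?_
  let φ := ffHom f (genericPoint_fixed f) hf
  haveI := functionField_isFractionRing_of_isAffineOpen X V hV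
  haveI := functionField_isFractionRing_of_isAffineOpen X (f ⁻¹ᵁ V) hU
  let K := φ.fieldRange
  let e : X.functionField ≃+* K := RingEquiv.ofBijective φ.toRingHom.rangeRestrictFieldEquiv.toRingHom
    φ.toRingHom.rangeRestrictFieldEquiv.bijective
  letI : Algebra Γ(X, V) K := (e.toRingHom.comp (algebraMap Γ(X, V) X.functionField)).toAlgebra
  haveI : IsFractionRing Γ(X, V) K := IsLocalization.isLocalization_of_algEquiv (nonZeroDivisors Γ(X, V))
    (AlgEquiv.ofRingEquiv (f := e) fun _ => rfl)
  letI : Algebra Γ(X, V) X.functionField :=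
    ((algebraMap Γ(X, f ⁻¹ᵁ V) X.functionField).comp (algebraMap Γ(X, V) Γ(X, f ⁻¹ᵁ V))).toAlgebra
  haveI : IsScalarTower Γ(X, V) Γ(X, f ⁻¹ᵁ V) X.functionField := .of_algebraMap_eq fun _ => rfl
  haveI : IsScalarTower Γ(X, V) K X.functionField := .of_algebraMap_eq fun b => by
    show X.presheaf.germ (f ⁻¹ᵁ V) (genericPoint X) _ (f.appLE V (f ⁻¹ᵁ V) le_rfl b) =
      ffMap f (genericPoint_fixed f) (X.presheaf.germ V (genericPoint X) hη b)
    rw [ffMap_germ, Scheme.Hom.app_eq_appLE]
  exact (IsFractionRing.finrank_eq Γ(X, V) K Γ(X, f ⁻¹ᵁ V) X.functionField).symm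

end Groth.Agent.AVLib.Deg
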