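import Groth.Agent.AVLib.Isogeny
import Groth.Agent.AVLib.Deg.Rank

/-!
# The degree of multiplication by `n` on an abelian variety
-/

set_option autoImplicit false
set_option backward.isDefEq.respectTransparency false

universe u

open CategoryTheory CategoryTheory.Limits MonoidalCategory CartesianMonoidalCategory MonObj AlgebraicGeometry
open Groth.Agent.PicLib Groth.Agent.AmpleLib

noncomputable section

namespace Groth.Agent.AVLib

variable {K : Type u} [Field K] {A : Over (Spec (CommRingCat.of K))} [GrpObj A] [IsProper A.hom]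
  [GeometricallyIntegral A.hom]

theorem npow_spec {g : ℕ} (hg : topologicalKrullDim A.left = g) (n : ℕ) (hn : 1 ≤ n) :
    IsFinite (𝟙 A ^ n).left ∧ Flat (𝟙 A ^ n).left ∧ ∀ a, Scheme.Hom.finrank (𝟙 A ^ n).left a = n ^ (2 * g) := by
  letI : A.left.Over (Spec (CommRingCat.of K)) := ⟨A.hom⟩
  haveI : IsProper (A.left ↘ Spec (CommRingCat.of K)) := ‹IsProper A.hom›
  haveI : GeometricallyReduced A.hom := inferInstance
  haveI : LocallyOfFinitePresentation A.hom := inferInstance
  haveI : Flat A.hom := inferInstance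
  haveI : Smooth (A.left ↘ Spec (CommRingCat.of K)) := S7795.result A
  haveI : IsIntegral A.left := GeometricallyIntegral.isIntegral_of_subsingleton A.hom
  haveI := isFinite_npow (A := A) n hn
  haveI := surjective_npow (A := A) n hn
  haveI : Flat (𝟙 A ^ n).left := Deg.flat_endo K _
  refine ⟨inferInstance, inferInstance, fun a => ?_⟩
  rw [Deg.finrank_eq_degree K (𝟙 A ^ n).left (Over.w (𝟙 A ^ n)) a]
  obtain ⟨M, hM, hs⟩ := exists_symmetric_ample (A := A)
  rw [Deg.finrank_eq_pow (k := K) hM hg (𝟙 A ^ n).left (Over.w (𝟙 A ^ n)) (N := n ^ 2) (Nat.one_le_pow _ _ hn)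
    (fun D => Classical.choice ((cls_eq_cls (isInvertible_pullback _ (isInvertible_tensorPow hM.1 (D + 1)))
      (isInvertible_tensorPow (isInvertible_tensorPow hM.1 (D + 1)) (n ^ 2))).1 (by
        rw [← pull_cls _ (isInvertible_tensorPow hM.1 (D + 1)), pull_npow_symm (by
          rw [cls_tensorPow hM.1, map_pow, hs]), ← cls_tensorPow]))), ← pow_mul]

theorem zpow_spec {g : ℕ} (hg : topologicalKrullDim A.left = g) (d : ℤ) (hd : d ≠ 0) :
    IsFinite (𝟙 A ^ d).left ∧ Flat (𝟙 A ^ d).left ∧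
      ∀ a, Scheme.Hom.finrank (𝟙 A ^ d).left a = d.natAbs ^ (2 * g) := by
  obtain ⟨h1, h2, h3⟩ := npow_spec hg d.natAbs (Int.natAbs_pos.2 hd)
  rcases Int.natAbs_eq d with e | e
  · rw [show (𝟙 A : A ⟶ A) ^ d = 𝟙 A ^ d.natAbs by conv_lhs => rw [e, zpow_natCast]]
    exact ⟨h1, h2, h3⟩
  · have e2 : (𝟙 A : A ⟶ A) ^ d = (𝟙 A)⁻¹ ≫ 𝟙 A ^ d.natAbs := by
      rw [MonObj.comp_pow, Category.comp_id, inv_pow]
      conv_lhs => rw [e, zpow_neg, zpow_natCast]
    rw [e2, Over.comp_left]
    exact ⟨inferInstance, inferInstance, fun a => by rw [Scheme.Hom.finrank_comp_left_of_isIso]; exact h3 a⟩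

end Groth.Agent.AVLib
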