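import Groth.Agent.AVLib.Deg.Asym

/-!
# Hilbert functions of graded pieces inside a function field
-/

set_option autoImplicit false
set_option backward.isDefEq.respectTransparency false

open MvPolynomial

noncomputable section

namespace Groth.Agent.AVLib.Deg

universe u

variable {k L : Type u} [Field k] [Field L] [Algebra k L] {g : ℕ}

/-- Values at `t` of the polynomials of degree at most `m`. -/
def Qm (t : Fin g → L) (m : ℕ) : Submodule k L :=
  (restrictTotalDegree (Fin g) k m).map (MvPolynomial.aeval t).toLinearMap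

theorem finrank_restrictTotalDegree (g m : ℕ) :
    Module.finrank k (restrictTotalDegree (Fin g) k m) = (m + g).choose g := by
  classical
  have e : ↥{d : Fin g →₀ ℕ | (d.sum fun _ e => e) ≤ m} ≃
      ↥((Finset.univ : Finset (Fin (g + 1))).finsuppAntidiag m) :=
    { toFun := fun d => ⟨Finsupp.equivFunOnFinite.symm
          (Fin.cons (m - d.1.sum fun _ e => e) fun i => d.1 i), Finset.mem_finsuppAntidiag.2 ⟨by
            have h : (d.1.sum fun _ e => e) ≤ m := d.2
            rw [Finsupp.sum_fintype _ _ fun _ => rfl] at h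
            simp [Fin.sum_univ_succ, Finsupp.sum_fintype]
            omega, Finset.subset_univ _⟩⟩
      invFun := fun f => ⟨Finsupp.equivFunOnFinite.symm fun i => f.1 i.succ, by
        have h := (Finset.mem_finsuppAntidiag.1 f.2).1
        rw [Fin.sum_univ_succ] at h
        show (Finsupp.sum _ fun _ e => e) ≤ m
        rw [Finsupp.sum_fintype _ _ fun _ => rfl]
        simp
        omega⟩
      left_inv := fun d => Subtype.ext (Finsupp.ext fun i => by simp)
      right_inv := fun f => Subtype.ext (Finsupp.ext fun i => by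
        have h := (Finset.mem_finsuppAntidiag.1 f.2).1
        rw [Fin.sum_univ_succ] at h
        cases i using Fin.cases with
        | zero =>
          simp [Finsupp.sum_fintype]
          omega
        | succ i => simp) }
  haveI := Fintype.ofEquiv _ e.symm
  show Module.finrank k (restrictSupport k {d : Fin g →₀ ℕ | (d.sum fun _ e => e) ≤ m}) = _
  rw [Module.finrank_eq_card_basis (basisRestrictSupport k _), Fintype.card_congr e, Fintype.card_coe,
    Finset.card_finsuppAntidiag_nat_eq_choose, Finset.card_univ, Fintype.card_fin,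
    show g + 1 + m - 1 = m + g by omega, Nat.choose_symm_add]

variable {t : Fin g → L}

theorem finrank_Qm (ht : AlgebraicIndependent k t) (m : ℕ) :
    Module.finrank k (Qm (k := k) t m) = (m + g).choose g :=
  (LinearEquiv.finrank_eq (Submodule.equivMapOfInjective (MvPolynomial.aeval t).toLinearMap ht _).symm).trans (finrank_restrictTotalDegree g m)

instance finite_Qm (t : Fin g → L) (m : ℕ) : Module.Finite k (Qm (k := k) t m) := Module.Finite.map _ _

theorem mem_Qm {m : ℕ} {p : MvPolynomial (Fin g) k} (h : p.totalDegree ≤ m) : aeval t p ∈ Qm (k := k) t m :=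
  ⟨p, (mem_restrictTotalDegree _ _ _).2 h, rfl⟩

/-- The field generated by the coordinates. -/
abbrev Fld (k : Type u) [Field k] [Algebra k L] (t : Fin g → L) : IntermediateField k L :=
  IntermediateField.adjoin k (Set.range t)

theorem aeval_mem (p : MvPolynomial (Fin g) k) : aeval t p ∈ Fld k t :=
  IntermediateField.algebra_adjoin_le_adjoin k _ (Algebra.adjoin_range_eq_range_aeval k t ▸ AlgHom.mem_range_self _ p)

/-- A family of subspaces closed under products. -/
structure Graded (k L : Type u) [Field k] [Field L] [Algebra k L] where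
  /-- The pieces. -/
  S : ℕ → Submodule k L
  one_mem : (1 : L) ∈ S 0
  mul_mem : ∀ {a b : ℕ} {x y : L}, x ∈ S a → y ∈ S b → x * y ∈ S (a + b)

namespace Graded

variable (G : Graded k L)

theorem pow_mem {a : ℕ} {x : L} (hx : x ∈ G.S a) : ∀ n : ℕ, x ^ n ∈ G.S (a * n)
  | 0 => by simpa using G.one_mem
  | n + 1 => by
    rw [pow_succ, Nat.mul_succ]
    exact G.mul_mem (pow_mem hx n) hx

theorem aeval_mul_mem {u : L} (hu : u ∈ G.S 1) (ht : ∀ j, t j * u ∈ G.S 1) {m : ℕ}
    {p : MvPolynomial (Fin g) k} (hp : p.totalDegree ≤ m) : aeval t p * u ^ m ∈ G.S m := by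
  classical
  rw [p.as_sum, map_sum, Finset.sum_mul]
  refine Submodule.sum_mem _ fun d hd => ?_
  have hdm : (∑ i, d i) ≤ m := by
    have h := (MvPolynomial.le_totalDegree hd).trans hp
    rwa [Finsupp.sum_fintype _ _ fun _ => rfl] at h
  have hprod : ∀ s : Finset (Fin g), (∏ i ∈ s, t i ^ d i) * u ^ (∑ i ∈ s, d i) ∈ G.S (∑ i ∈ s, d i) := by
    intro s
    induction s using Finset.induction_on with
    | empty => simpa using G.one_mem
    | insert a s ha ih =>
      rw [Finset.prod_insert ha, Finset.sum_insert ha, pow_add]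
      have h1 := G.pow_mem (ht a) (d a)
      rw [one_mul, mul_pow] at h1
      have h2 := G.mul_mem h1 ih
      convert h2 using 1
      ring
  have h3 := G.mul_mem (hprod Finset.univ) (G.pow_mem hu (m - ∑ i, d i))
  rw [one_mul, Nat.add_sub_cancel' hdm, mul_assoc, ← pow_add, Nat.add_sub_cancel' hdm] at h3
  rw [aeval_monomial, Finsupp.prod_fintype _ _ fun _ => pow_zero _, mul_assoc, ← Algebra.smul_def]
  exact Submodule.smul_mem _ _ h3

/-- The lower bound. -/
theorem mul_choose_le (htr : AlgebraicIndependent k t) {u : L} (hu0 : u ≠ 0) (hu : u ∈ G.S 1)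
    (ht : ∀ j, t j * u ∈ G.S 1) {δ : ℕ} (b : Fin δ → L) (hb : LinearIndependent (Fld k t) b) {a : ℕ}
    (hba : ∀ i, b i * u ^ a ∈ G.S a) (m : ℕ) [Module.Finite k (G.S (m + a))] :
    δ * (m + g).choose g ≤ Module.finrank k (G.S (m + a)) := by
  let φ : (Fin δ → Qm (k := k) t m) →ₗ[k] L :=
    (LinearMap.mulRight k (u ^ (m + a))).comp
      (∑ i, ((LinearMap.mulRight k (b i)).comp (Qm (k := k) t m).subtype).comp (LinearMap.proj i))
  have hφ : ∀ p, φ p = (∑ i, (p i : L) * b i) * u ^ (m + a) := fun p => by simp [φ, Finset.sum_mul]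
  have hmem : ∀ p, φ p ∈ G.S (m + a) := fun p => by
    rw [hφ, Finset.sum_mul]
    refine Submodule.sum_mem _ fun i _ => ?_
    obtain ⟨q, hq, hqe⟩ := (p i).2
    have h1 := G.mul_mem (G.aeval_mul_mem hu ht ((mem_restrictTotalDegree _ _ _).1 hq)) (hba i)
    rw [show (p i : L) = aeval t q from hqe.symm]
    convert h1 using 1
    rw [pow_add]
    ring
  have hinj : Function.Injective (φ.codRestrict (G.S (m + a)) hmem) := by
    refine (injective_iff_map_eq_zero (φ.codRestrict (G.S (m + a)) hmem).toAddMonoidHom).2 fun p hp => ?_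
    have h1 : φ p = 0 := congrArg Subtype.val hp
    rw [hφ, mul_eq_zero, or_iff_left (pow_ne_zero _ hu0)] at h1
    have hF : ∀ i, (p i : L) ∈ Fld k t := fun i => by
      obtain ⟨q, -, hqe⟩ := (p i).2
      exact hqe ▸ aeval_mem q
    have h2 := Fintype.linearIndependent_iff.1 hb (fun i => ⟨(p i : L), hF i⟩) (by simpa [IntermediateField.smul_def] using h1)
    funext i
    exact Subtype.ext (by simpa using congrArg Subtype.val (h2 i))
  have h := LinearMap.finrank_le_finrank_of_injective hinj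
  rwa [Module.finrank_pi_fintype, Finset.sum_const, Finset.card_univ, Fintype.card_fin, finrank_Qm htr,
    smul_eq_mul] at h

/-- The upper bound from coordinates with bounded degree. -/
theorem finrank_le_of_coord (htr : AlgebraicIndependent k t) {δ : ℕ} (w : Module.Basis (Fin δ) (Fld k t) L)
    {u D : L} (hu0 : u ≠ 0) (hD : D ≠ 0) {e : ℕ} (m : ℕ)
    (h : ∀ x ∈ G.S m, ∀ i, D * (w.repr (x / u ^ m) i : L) ∈ Qm (k := k) t (m + e)) :
    Module.Finite k (G.S m) ∧ Module.finrank k (G.S m) ≤ δ * (m + e + g).choose g := by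
  let ψ : G.S m →ₗ[k] (Fin δ → Qm (k := k) t (m + e)) :=
    LinearMap.pi fun i => LinearMap.codRestrict _
      { toFun := fun x => D * (w.repr (x.1 / u ^ m) i : L)
        map_add' := fun x y => by simp [add_div, mul_add]
        map_smul' := fun c x => by
          have hc : (c • x).1 / u ^ m = (algebraMap k (Fld k t) c) • (x.1 / u ^ m) := by
            rw [IntermediateField.smul_def, Submodule.coe_smul, Algebra.smul_def, smul_eq_mul, mul_div_assoc]
            rfl
          simp only [RingHom.id_apply, hc, map_smul, Finsupp.smul_apply, smul_eq_mul, IntermediateField.coe_mul]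
          rw [Algebra.smul_def, IntermediateField.coe_algebraMap_apply]
          ring } (fun x => h x.1 x.2 i)
  have hinj : Function.Injective ψ := by
    refine (injective_iff_map_eq_zero ψ.toAddMonoidHom).2 fun x hx => ?_
    have h1 : w.repr (x.1 / u ^ m) = 0 := Finsupp.ext fun i => by
      have h2 : D * (w.repr (x.1 / u ^ m) i : L) = 0 := congrArg Subtype.val (congrFun hx i)
      exact Subtype.ext ((mul_eq_zero.1 h2).resolve_left hD)
    have h3 := w.repr.map_eq_zero_iff.1 h1
    rw [div_eq_zero_iff, or_iff_left (pow_ne_zero _ hu0)] at h3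
    exact Subtype.ext h3
  haveI : Module.Finite k (G.S m) := Module.Finite.of_injective ψ hinj
  refine ⟨inferInstance, ?_⟩
  have h' := LinearMap.finrank_le_finrank_of_injective hinj
  rwa [Module.finrank_pi_fintype, Finset.sum_const, Finset.card_univ, Fintype.card_fin, finrank_Qm htr,
    smul_eq_mul] at h'

end Graded

/-- Elements of `Algebra.adjoin k (t_j / c, 1 / c)`, `c` one of the coordinates. -/
theorem mem_adjoin_chart (c : Fin g) (htc : t c ≠ 0) {q : L}
    (hq : q ∈ Algebra.adjoin k (insert (t c)⁻¹ (Set.range fun j => t j / t c))) :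
    ∃ (l : ℕ) (p : MvPolynomial (Fin g) k), p.totalDegree ≤ l ∧ q * t c ^ l = aeval t p := by
  induction hq using Algebra.adjoin_induction with
  | mem x hx =>
    rcases hx with rfl | ⟨j, rfl⟩
    · exact ⟨1, 1, by simp, by simp [inv_mul_cancel₀ htc]⟩
    · exact ⟨1, X j, by simp, by simp [div_mul_cancel₀ _ htc]⟩
  | algebraMap r => exact ⟨0, C r, by simp, by simp⟩
  | add x y _ _ hx hy =>
    obtain ⟨l, p, hp, hx⟩ := hx
    obtain ⟨l', p', hp', hy⟩ := hy
    refine ⟨l + l', p * X c ^ l' + p' * X c ^ l, ?_, ?_⟩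
    · refine (totalDegree_add _ _).trans (max_le ?_ ?_)
      · refine (totalDegree_mul _ _).trans ?_
        rw [totalDegree_X_pow]
        omega
      · refine (totalDegree_mul _ _).trans ?_
        rw [totalDegree_X_pow]
        omega
    · simp only [map_add, map_mul, map_pow, aeval_X, ← hx, ← hy]
      ring
  | mul x y _ _ hx hy =>
    obtain ⟨l, p, hp, hx⟩ := hx
    obtain ⟨l', p', hp', hy⟩ := hy
    exact ⟨l + l', p * p', (totalDegree_mul _ _).trans (by omega), by simp only [map_mul, ← hx, ← hy]; ring⟩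

/-- Common denominators for the coordinates of a finitely generated integral algebra. -/
theorem exists_denominator {δ : ℕ} (w : Module.Basis (Fin δ) (Fld k t) L) (R : Subalgebra k L)
    (hR : (R : Set L) ⊆ Fld k t) (hfrac : ∀ x ∈ Fld k t, ∃ r ∈ R, ∃ s ∈ R, s ≠ 0 ∧ x * s = r)
    (s : Set L) (hs : s.Finite) (hint : ∀ x ∈ s, IsIntegral R x) :
    ∃ D ∈ R, D ≠ 0 ∧ ∀ y ∈ Algebra.adjoin k s, ∀ i, D * (w.repr y i : L) ∈ R := by
  classical
  have hfg := fg_adjoin_of_finite hs hint
  obtain ⟨T, hT⟩ := hfg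
  choose r hr den hden hne heq using fun p : L × Fin δ => hfrac (w.repr p.1 p.2 : L) (w.repr p.1 p.2).2
  let D : L := ∏ p ∈ T ×ˢ Finset.univ, den p
  refine ⟨D, Subalgebra.prod_mem _ fun p _ => hden p, Finset.prod_ne_zero_iff.2 fun p _ => hne p, ?_⟩
  intro y hy i
  have hyT : y ∈ Submodule.span R (T : Set L) := by
    rw [hT]
    exact Algebra.adjoin_le (S := (Algebra.adjoin R s).restrictScalars k) Algebra.subset_adjoin hy
  clear hy
  induction hyT using Submodule.span_induction with
  | mem z hz =>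
    have hp : (z, i) ∈ T ×ˢ Finset.univ := Finset.mem_product.2 ⟨hz, Finset.mem_univ _⟩
    show (∏ p ∈ T ×ˢ Finset.univ, den p) * _ ∈ R
    rw [← Finset.prod_erase_mul _ _ hp, mul_assoc, mul_comm (den (z, i)), heq (z, i)]
    exact Subalgebra.mul_mem _ (Subalgebra.prod_mem _ fun p _ => hden p) (hr _)
  | zero => simp
  | add a b _ _ ha hb =>
    simp only [map_add, Finsupp.add_apply, IntermediateField.coe_add, mul_add]
    exact R.add_mem ha hb
  | smul c z _ hz =>
    have hc : c • z = (⟨(c : L), hR c.2⟩ : Fld k t) • z := by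
      rw [IntermediateField.smul_def]
      rfl
    simp only [hc, map_smul, Finsupp.smul_apply, smul_eq_mul, IntermediateField.coe_mul]
    rw [mul_left_comm]
    exact R.mul_mem c.2 hz

theorem adjoin_le_Fld : (Algebra.adjoin k (Set.range t) : Set L) ⊆ Fld k t :=
  IntermediateField.algebra_adjoin_le_adjoin k _

theorem exists_frac_adjoin {x : L} (hx : x ∈ Fld k t) :
    ∃ r ∈ Algebra.adjoin k (Set.range t), ∃ s ∈ Algebra.adjoin k (Set.range t), s ≠ 0 ∧ x * s = r := by
  obtain ⟨r, hr, s, hs, rfl⟩ := IntermediateField.mem_adjoin_iff_div.1 hx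
  by_cases h : s = 0
  · exact ⟨0, Subalgebra.zero_mem _, 1, Subalgebra.one_mem _, one_ne_zero, by simp [h]⟩
  · exact ⟨r, hr, s, hs, h, div_mul_cancel₀ _ h⟩

theorem chart_subset_Fld (c : Fin g) :
    (Algebra.adjoin k (insert (t c)⁻¹ (Set.range fun j => t j / t c)) : Set L) ⊆ Fld k t := by
  have hj : ∀ j, t j ∈ Fld k t := fun j => IntermediateField.subset_adjoin k _ ⟨j, rfl⟩
  refine fun x hx => Algebra.adjoin_le (S := (Fld k t).toSubalgebra) ?_ hx
  rintro _ (rfl | ⟨j, rfl⟩)
  · exact (Fld k t).inv_mem (hj c)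
  · exact (Fld k t).div_mem (hj j) (hj c)

theorem exists_frac_chart (c : Fin g) (htc : t c ≠ 0) {x : L} (hx : x ∈ Fld k t) :
    ∃ r ∈ Algebra.adjoin k (insert (t c)⁻¹ (Set.range fun j => t j / t c)),
      ∃ s ∈ Algebra.adjoin k (insert (t c)⁻¹ (Set.range fun j => t j / t c)), s ≠ 0 ∧ x * s = r := by
  let R := Algebra.adjoin k (insert (t c)⁻¹ (Set.range fun j => t j / t c))
  have key : ∀ a ∈ Algebra.adjoin k (Set.range t), ∃ n : ℕ, a * (t c)⁻¹ ^ n ∈ R := by
    intro a ha
    induction ha using Algebra.adjoin_induction with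
    | mem x hx =>
      obtain ⟨j, rfl⟩ := hx
      exact ⟨1, by rw [pow_one, ← div_eq_mul_inv]; exact Algebra.subset_adjoin (Or.inr ⟨j, rfl⟩)⟩
    | algebraMap r => exact ⟨0, by simpa using R.algebraMap_mem r⟩
    | add x y _ _ hx hy =>
      obtain ⟨n, hn⟩ := hx
      obtain ⟨n', hn'⟩ := hy
      refine ⟨n + n', ?_⟩
      have hi : ∀ i, (t c)⁻¹ ^ i ∈ R := fun i => R.pow_mem (Algebra.subset_adjoin (Or.inl rfl)) i
      have := R.add_mem (R.mul_mem hn (hi n')) (R.mul_mem hn' (hi n))
      convert this using 1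
      ring
    | mul x y _ _ hx hy =>
      obtain ⟨n, hn⟩ := hx
      obtain ⟨n', hn'⟩ := hy
      refine ⟨n + n', ?_⟩
      have := R.mul_mem hn hn'
      convert this using 1
      ring
  obtain ⟨r, hr, s, hs, hs0, he⟩ := exists_frac_adjoin hx
  obtain ⟨n, hn⟩ := key r hr
  obtain ⟨n', hn'⟩ := key s hs
  have hi : ∀ i, (t c)⁻¹ ^ i ∈ R := fun i => R.pow_mem (Algebra.subset_adjoin (Or.inl rfl)) i
  refine ⟨_, R.mul_mem hn (hi n'), _, R.mul_mem hn' (hi n), ?_, ?_⟩
  · simp [hs0, htc]
  · rw [← he]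
    ring

/-- The upper bound from two charts. -/
theorem exists_upper (htr : AlgebraicIndependent k t) (G : Graded k L) {δ : ℕ}
    (w : Module.Basis (Fin δ) (Fld k t) L) {u : L} (hu : u ≠ 0) (c : Fin g)
    (s₀ : Set L) (hs₀ : s₀.Finite) (hi₀ : ∀ x ∈ s₀, IsIntegral (Algebra.adjoin k (Set.range t)) x)
    (s₁ : Set L) (hs₁ : s₁.Finite)
    (hi₁ : ∀ x ∈ s₁, IsIntegral (Algebra.adjoin k (insert (t c)⁻¹ (Set.range fun j => t j / t c))) x)
    (h₀ : ∀ m, ∀ x ∈ G.S m, x / u ^ m ∈ Algebra.adjoin k s₀)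
    (h₁ : ∀ m, ∀ x ∈ G.S m, x / (t c * u) ^ m ∈ Algebra.adjoin k s₁) :
    ∃ e, ∀ m, Module.Finite k (G.S m) ∧ Module.finrank k (G.S m) ≤ δ * (m + e + g).choose g := by
  have htc : t c ≠ 0 := htr.ne_zero c
  obtain ⟨D, hD, hD0, hDm⟩ := exists_denominator w _ adjoin_le_Fld (fun _ => exists_frac_adjoin) s₀ hs₀ hi₀
  obtain ⟨E, hE, hE0, hEm⟩ := exists_denominator w _ (chart_subset_Fld c) (fun _ => exists_frac_chart c htc) s₁ hs₁ hi₁
  rw [Algebra.adjoin_range_eq_range_aeval] at hD
  obtain ⟨d, hd⟩ := hD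
  obtain ⟨l₀, a, ha, hEa⟩ := mem_adjoin_chart c htc hE
  refine ⟨d.totalDegree + l₀, fun m => G.finrank_le_of_coord htr w hu hD0 m fun x hx i => ?_⟩
  set y := x / u ^ m with hy
  set z : L := (w.repr y i : L) with hz
  have h0' := hDm y (h₀ m x hx) i
  rw [Algebra.adjoin_range_eq_range_aeval] at h0'
  obtain ⟨p, hp⟩ := h0'
  change aeval t p = D * z at hp
  change aeval t d = D at hd
  have h1' := hEm _ (h₁ m x hx) i
  have hy1 : x / (t c * u) ^ m =
      (⟨t c, IntermediateField.subset_adjoin k _ ⟨c, rfl⟩⟩ : Fld k t)⁻¹ ^ m • y := by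
    rw [IntermediateField.smul_def, hy]
    simp only [SubmonoidClass.coe_pow, IntermediateField.coe_inv, smul_eq_mul]
    rw [mul_pow, inv_pow]
    field_simp
  rw [hy1, map_smul, Finsupp.smul_apply, smul_eq_mul, IntermediateField.coe_mul, SubmonoidClass.coe_pow,
    IntermediateField.coe_inv, ← hz] at h1'
  obtain ⟨l, p', hp', he⟩ := mem_adjoin_chart c htc h1'
  rw [← hp]
  refine mem_Qm ?_
  by_cases hp0 : p = 0
  · simp [hp0]
  have ha0 : a ≠ 0 := by
    rintro rfl
    simp [hE0, htc] at hEa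
  have key : a * p * X c ^ l = p' * d * X c ^ (l₀ + m) := by
    refine htr ?_
    simp only [map_mul, map_pow, aeval_X, ← hEa, hp, hd, ← he]
    rw [inv_pow, pow_add]
    field_simp
  have hdeg := congrArg totalDegree key
  have hX : ∀ n, (X c : MvPolynomial (Fin g) k) ^ n ≠ 0 := fun n => pow_ne_zero _ (X_ne_zero c)
  rw [totalDegree_mul_of_isDomain (mul_ne_zero ha0 hp0) (hX l), totalDegree_mul_of_isDomain ha0 hp0,
    totalDegree_X_pow] at hdeg
  have h2 := (totalDegree_mul (p' * d) (X c ^ (l₀ + m))).trans (Nat.add_le_add_right (totalDegree_mul p' d) _)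
  rw [totalDegree_X_pow, ← hdeg] at h2
  omega

end Groth.Agent.AVLib.Deg
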