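import Mathlib

/-!
# Elementary asymptotics of binomial coefficients
-/

set_option autoImplicit false

namespace Groth.Agent.AVLib.Deg

theorem add_pow_le (x d : ℕ) : ∀ g : ℕ, (x + d) ^ g ≤ x ^ g + g * d * (x + d) ^ (g - 1)
  | 0 => by simp
  | g + 1 => by
    have ih := add_pow_le x d g
    have h1 : x ^ g ≤ (x + d) ^ g := Nat.pow_le_pow_left (Nat.le_add_right _ _) g
    rcases g with _ | g
    · simp
    · simp only [Nat.add_sub_cancel] at ih ⊢
      calc (x + d) ^ (g + 1 + 1) = (x + d) ^ (g + 1) * (x + d) := pow_succ _ _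
        _ ≤ (x ^ (g + 1) + (g + 1) * d * (x + d) ^ g) * (x + d) := Nat.mul_le_mul_right _ ih
        _ = x ^ (g + 1 + 1) + x ^ (g + 1) * d + (g + 1) * d * (x + d) ^ (g + 1) := by ring
        _ ≤ x ^ (g + 1 + 1) + (x + d) ^ (g + 1) * d + (g + 1) * d * (x + d) ^ (g + 1) := by
          gcongr
        _ = x ^ (g + 1 + 1) + (g + 1 + 1) * d * (x + d) ^ (g + 1) := by ring

theorem pow_le_choose (x g : ℕ) : x ^ g ≤ g.factorial * (x + g).choose g := by
  rw [← Nat.ascFactorial_eq_factorial_mul_choose]
  exact (Nat.pow_le_pow_left (Nat.le_succ x) g).trans (Nat.pow_succ_le_ascFactorial (x + 1) g)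

theorem choose_le_pow (x g : ℕ) : g.factorial * (x + g).choose g ≤ (x + g) ^ g := by
  rw [← Nat.descFactorial_eq_factorial_mul_choose]
  exact Nat.descFactorial_le_pow _ _

/-- Comparison of leading terms. -/
theorem le_of_pow_le {A B N g d : ℕ} (h : ∀ m, A * m ^ g ≤ B * (N * m + d) ^ g) : A ≤ B * N ^ g := by
  by_contra hlt
  push Not at hlt
  rcases g with _ | g
  · have := h 0
    simp at this hlt
    omega
  set m := B * (g + 1) * d * (N + 1) ^ g + d + 1 with hm
  have h1 := h m
  have h2 := add_pow_le (N * m) d (g + 1)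
  simp only [Nat.add_sub_cancel] at h2
  have h3 : (N * m + d) ^ g ≤ ((N + 1) * m) ^ g := by
    apply Nat.pow_le_pow_left
    rw [add_mul, one_mul]
    omega
  have h4 : (B * N ^ (g + 1) + 1) * m ^ (g + 1) ≤ B * (N * m + d) ^ (g + 1) :=
    (Nat.mul_le_mul_right _ hlt).trans h1
  have h5 : B * (N * m + d) ^ (g + 1) ≤
      B * N ^ (g + 1) * m ^ (g + 1) + B * (g + 1) * d * (N + 1) ^ g * m ^ g := by
    calc B * (N * m + d) ^ (g + 1) ≤ B * ((N * m) ^ (g + 1) + (g + 1) * d * ((N + 1) * m) ^ g) :=
          Nat.mul_le_mul_left _ (h2.trans (by gcongr))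
      _ = _ := by rw [mul_pow (N + 1) m g]; ring
  have h6 : m ^ (g + 1) ≤ B * (g + 1) * d * (N + 1) ^ g * m ^ g := by
    have := h4.trans h5
    rw [add_mul, one_mul] at this
    omega
  rw [pow_succ, mul_comm (m ^ g)] at h6
  have h7 := Nat.le_of_mul_le_mul_right h6 (pow_pos (by omega) g)
  omega

/-- Comparison of Hilbert functions. -/
theorem le_of_choose_le {A B N g c : ℕ} (h : ∀ m, A * (m + g).choose g ≤ B * (N * m + c + g).choose g) :
    A ≤ B * N ^ g :=
  le_of_pow_le (d := c + g) fun m => by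
    calc A * m ^ g ≤ A * (g.factorial * (m + g).choose g) := Nat.mul_le_mul_left _ (pow_le_choose m g)
      _ = g.factorial * (A * (m + g).choose g) := by ring
      _ ≤ g.factorial * (B * (N * m + c + g).choose g) := Nat.mul_le_mul_left _ (h m)
      _ = B * (g.factorial * (N * m + c + g).choose g) := by ring
      _ ≤ B * (N * m + c + g) ^ g := Nat.mul_le_mul_left _ (choose_le_pow _ _)
      _ = B * (N * m + (c + g)) ^ g := by rw [add_assoc]

/-- Comparison of Hilbert functions, scaled on the left. -/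
theorem mul_le_of_choose_le {A B N g c : ℕ} (h : ∀ m, A * (N * m + g).choose g ≤ B * (m + c + g).choose g) :
    A * N ^ g ≤ B := by
  have := le_of_pow_le (A := A * N ^ g) (B := B) (N := 1) (d := c + g) (g := g) fun m => by
    calc A * N ^ g * m ^ g = A * (N * m) ^ g := by ring
      _ ≤ A * (g.factorial * (N * m + g).choose g) := Nat.mul_le_mul_left _ (pow_le_choose _ g)
      _ = g.factorial * (A * (N * m + g).choose g) := by ring
      _ ≤ g.factorial * (B * (m + c + g).choose g) := Nat.mul_le_mul_left _ (h m)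
      _ = B * (g.factorial * (m + c + g).choose g) := by ring
      _ ≤ B * (m + c + g) ^ g := Nat.mul_le_mul_left _ (choose_le_pow _ _)
      _ = B * (1 * m + (c + g)) ^ g := by rw [one_mul, add_assoc]
  simpa using this

end Groth.Agent.AVLib.Deg
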