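import Groth.Agent.AVLib.Deg.Sections
import Mathlib.FieldTheory.Relrank

/-!
# The degree of an endomorphism multiplying an ample class
-/

set_option autoImplicit false
set_option backward.isDefEq.respectTransparency false

universe u

open CategoryTheory AlgebraicGeometry TopologicalSpace Opposite
open Groth.Agent.ParaFLib Groth.Agent.AmpleLib

noncomputable section

namespace Groth.Agent.AVLib.Deg

attribute [local instance] Curv2.stalkAlgebra

variable (k : Type u) [Field k] {X : Scheme.{u}} [X.Over (Spec (CommRingCat.of k))] [IsIntegral X]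
  [IsProper (X ↘ Spec (CommRingCat.of k))]

theorem genericPoint_fixed (f : X ⟶ X) [Surjective f] : f (genericPoint X) = genericPoint X := by
  refine (genericPoint_spec X).eq ?_ |>.symm
  have h := (genericPoint_spec X).image f.continuous
  rw [Set.image_univ, Set.range_eq_univ.2 f.surjective, closure_univ] at h
  exact h

theorem trdeg_functionField {g : ℕ} (hdim : topologicalKrullDim X = g) :
    Algebra.trdeg k X.functionField = (g : Cardinal.{u}) := by
  obtain ⟨t, ht, htd⟩ := FlatDim.topologicalKrullDim_closure k (X ↘ Spec (CommRingCat.of k)) (genericPoint X)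
  rw [(genericPoint_spec X).def, (Homeomorph.Set.univ ↥X).isHomeomorph.topologicalKrullDim_eq, hdim] at htd
  have e : g = t := by
    have h1 := WithBot.coe_injective htd
    exact_mod_cast h1
  letI := Curv2.resAlgebra k X (genericPoint X)
  rw [DimFormulaLib.resTrdegAt_over k X (genericPoint X), ← e] at ht
  rw [← ht]
  letI : Algebra X.functionField (X.residueField (genericPoint X)) := (X.residue (genericPoint X)).hom.toAlgebra
  haveI : IsScalarTower k X.functionField (X.residueField (genericPoint X)) := .of_algebraMap_eq fun _ => rfl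
  have hb : Function.Bijective (IsScalarTower.toAlgHom k X.functionField (X.residueField (genericPoint X))) :=
    ⟨(IsScalarTower.toAlgHom k X.functionField (X.residueField (genericPoint X))).toRingHom.injective,
      IsLocalRing.residue_surjective⟩
  exact (AlgEquiv.ofBijective _ hb).trdeg_eq

variable {k}

/-- The induced algebra endomorphism. -/
def ffHom (f : X ⟶ X) (hη : f (genericPoint X) = genericPoint X)
    (hf : f ≫ (X ↘ Spec (CommRingCat.of k)) = X ↘ Spec (CommRingCat.of k)) :
    X.functionField →ₐ[k] X.functionField where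
  toRingHom := ffMap f hη
  commutes' c := by
    show ffMap f hη (X.presheaf.germ ⊤ (genericPoint X) trivial (Coh.toGlobal (X ↘ Spec (CommRingCat.of k)) c)) =
      X.presheaf.germ ⊤ (genericPoint X) trivial (Coh.toGlobal (X ↘ Spec (CommRingCat.of k)) c)
    rw [ffMap_germ]
    show X.presheaf.germ ⊤ (genericPoint X) trivial (f.appTop (Coh.toGlobal (X ↘ Spec (CommRingCat.of k)) c)) = _
    congr 1
    show f.appTop ((X ↘ Spec (CommRingCat.of k)).appTop _) = (X ↘ Spec (CommRingCat.of k)).appTop _
    rw [← CommRingCat.comp_apply, ← Scheme.Hom.comp_appTop, hf]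

/-- The degree. -/
theorem finrank_eq_pow {L : X.Modules} (hL : CohB1.IsAmple L) {g : ℕ} (hdim : topologicalKrullDim X = g)
    (f : X ⟶ X) [Surjective f] [IsAffineHom f]
    (hf : f ≫ (X ↘ Spec (CommRingCat.of k)) = X ↘ Spec (CommRingCat.of k)) {N : ℕ} (hN : 1 ≤ N)
    (θ : ∀ D : ℕ, (Scheme.Modules.pullback f).obj (CohB1.tensorPow L (D + 1)) ≅
      CohB1.tensorPow (CohB1.tensorPow L (D + 1)) N) :
    Module.finrank (ffHom f (genericPoint_fixed f) hf).fieldRange X.functionField = N ^ g := by
  classical
  obtain ⟨d, s, haff, hcov, hgen⟩ := exists_sections k hL hdim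
  have hM := isInvertible_tensorPow hL.1 (d + 1)
  obtain ⟨F⟩ := exists_frame hM
  obtain ⟨D, hDu⟩ := exists_datum F hM k s haff hcov hgen
  have hη := genericPoint_fixed f
  obtain ⟨lam, hlam, hsc⟩ := F.exists_scaling hM f hη (θ d)
  let H := F.eqn hM
  let φ := ffHom f hη hf
  have hφ : ∀ x, φ x = ffMap f hη x := fun _ => rfl
  have hne : ∀ p, H p ≠ 0 := D.ne_zero
  have hunit : ∀ i q, Reg q (φ (D.u i) * lam / H q ^ N) ∧
      (f q ∈ D.U i ↔ UnitAt q (φ (D.u i) * lam / H q ^ N)) := by
    intro i q
    have h1 := unitAt_ffMap f hη (D.mem i (f q))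
    have e : φ (D.u i) * lam / H q ^ N = φ (D.u i / H (f q)) * (φ (H (f q)) * lam / H q ^ N) := by
      rw [map_div₀]
      field_simp [hne q, (map_ne_zero_iff φ φ.toRingHom.injective).2 (hne (f q))]
    have h2 : UnitAt q (φ (H (f q)) * lam / H q ^ N) := hsc q
    rw [e]
    refine ⟨h1.1.mul h2.reg, ?_⟩
    rw [D.mem_iff i (f q), h1.2]
    refine ⟨fun h => h.mul h2, fun h => ?_⟩
    have h3 := h.mul h2.inv
    rwa [mul_inv_cancel_right₀ h2.ne_zero] at h3
  let D' : Datum g (fun q => H q ^ N) :=
    { u := fun i => φ (D.u i) * lam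
      U := fun i => f ⁻¹ᵁ D.U i
      ne_zero := fun p => pow_ne_zero _ (hne p)
      loc := fun p => by
        obtain ⟨W, hp, hW⟩ := D.loc p
        refine ⟨W, hp, fun q hq => ?_⟩
        rw [← div_pow]
        exact (hW q hq).pow N
      mem := fun i p => (hunit i p).1
      mem_iff := fun i p => (hunit i p).2
      affine := fun i => (D.affine i).preimage f
      cover := fun p => D.cover (f p)
      gen_mem := fun i => show f (genericPoint X) ∈ D.U i from hη.symm ▸ D.gen_mem i }
  have htr := trdeg_functionField k hdim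
  obtain ⟨a, e, hfin, hlo, hhi⟩ := D.bounds (k := k) htr
  obtain ⟨a', e', -, hlo', hhi'⟩ := D'.bounds (k := k) htr
  have hS : ∀ m, (pieces k fun q => H q ^ N).S m = (pieces k H).S (N * m) := fun m => by
    ext x
    show (∀ p, Reg p (x / (H p ^ N) ^ m)) ↔ ∀ p, Reg p (x / H p ^ (N * m))
    simp only [pow_mul]
  have hmono : ∀ m n, Module.finrank k ((pieces k H).S m) ≤ Module.finrank k ((pieces k H).S (m + n)) := by
    intro m n
    haveI := hfin (m + n)
    let ψ : (pieces k H).S m →ₗ[k] (pieces k H).S (m + n) :=
      LinearMap.codRestrict _ ((LinearMap.mulRight k (D.u 0 ^ n)).comp ((pieces k H).S m).subtype) fun x => by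
        have h := (pieces k H).mul_mem x.2 ((pieces k H).pow_mem (D.u_mem (k := k) 0) n)
        rwa [one_mul] at h
    refine LinearMap.finrank_le_finrank_of_injective (f := ψ) fun x y hxy => Subtype.ext ?_
    exact mul_right_cancel₀ (pow_ne_zero n (D.u_ne 0)) (congrArg Subtype.val hxy)
  -- degrees
  let δ := Module.finrank (Fld k D.t) X.functionField
  let δ' := Module.finrank (Fld k D'.t) X.functionField
  have h1 : δ' ≤ δ * N ^ g := by
    refine le_of_choose_le (c := N * a' + e) fun m => ?_
    have := (hlo' m).trans_eq (congrArg (fun M : Submodule k X.functionField => Module.finrank k M) (hS (m + a')))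
    refine this.trans ((hhi _).trans (le_of_eq ?_))
    show δ * _ = δ * _
    congr 2
    ring
  have h2 : δ * N ^ g ≤ δ' := by
    refine mul_le_of_choose_le (c := a + e') fun m => ?_
    have h3 := (hlo (N * m)).trans (hmono (N * m + a) (N * a - a))
    have ha : a ≤ N * a := Nat.le_mul_of_pos_left a hN
    rw [show N * m + a + (N * a - a) = N * (m + a) by rw [Nat.mul_add]; omega, ← hS] at h3
    refine h3.trans ((hhi' _).trans (le_of_eq ?_))
    show δ' * _ = δ' * _
    congr 2
    ring
  have hδ : 0 < δ := by
    haveI := D.finite (k := k)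
    exact Module.finrank_pos
  have ht : D'.t = fun j => φ (D.t j) := funext fun j => by
    show φ (D.u j.succ) * lam / (φ (D.u 0) * lam) = φ (D.u j.succ / D.u 0)
    rw [map_div₀, mul_div_mul_right _ _ hlam]
  have hF : Fld k D'.t = (Fld k D.t).map φ := by
    rw [IntermediateField.adjoin_map, ← Set.range_comp]
    rw [ht]
    rfl
  have htower : δ' = δ * Module.finrank φ.fieldRange X.functionField := by
    have hle : (Fld k D.t).map φ ≤ φ.fieldRange := fun x hx => by
      obtain ⟨y, -, rfl⟩ := hx
      exact ⟨y, rfl⟩
    have h := IntermediateField.relfinrank_mul_finrank_top hle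
    rw [show φ.fieldRange = (⊤ : IntermediateField k X.functionField).map φ from
      (AlgHom.fieldRange_eq_map φ), IntermediateField.relfinrank_map_map, IntermediateField.relfinrank_top_right] at h
    show Module.finrank (Fld k D'.t) X.functionField = _
    rw [hF, ← h, AlgHom.fieldRange_eq_map φ]
  have := le_antisymm h1 h2
  rw [htower] at this
  exact Nat.eq_of_mul_eq_mul_left hδ this

end Groth.Agent.AVLib.Deg
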