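import Groth.Agent.AVLib.Deg.Alg
import Groth.Agent.NormalSch.CurveVal
import Groth.Agent.NormalSch.Basic
import Groth.Agent.DimFormulaLib.Field
import Groth.Agent.FlatDim.Trdeg
import Mathlib.RingTheory.Valuation.LocalSubring

/-!
# Sections of multiples of a Cartier divisor, inside the function field
-/

set_option autoImplicit false
set_option backward.isDefEq.respectTransparency false

universe u

open CategoryTheory AlgebraicGeometry TopologicalSpace Opposite IsLocalRing

noncomputable section

namespace Groth.Agent.AVLib.Deg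

attribute [local instance] Curv2.stalkAlgebra

variable (k : Type u) [Field k] {X : Scheme.{u}} [X.Over (Spec (CommRingCat.of k))] [IsIntegral X]

/-- `x` is regular at `p`. -/
def Reg (p : X) (x : X.functionField) : Prop := x ∈ Set.range (algebraMap (X.presheaf.stalk p) X.functionField)

/-- `x` is a unit at `p`. -/
def UnitAt (p : X) (x : X.functionField) : Prop :=
  ∃ a : X.presheaf.stalk p, IsUnit a ∧ algebraMap (X.presheaf.stalk p) X.functionField a = x

theorem algebraMap_stalk (p : X) (c : k) :
    algebraMap (X.presheaf.stalk p) X.functionField (Curv2.stalkMap k X p c) = algebraMap k X.functionField c :=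
  congrFun (congrArg (fun φ : Γ(X, ⊤) ⟶ X.functionField => (φ : Γ(X, ⊤) → X.functionField))
    (X.presheaf.germ_stalkSpecializes (U := ⊤) trivial (genericPoint_specializes p))) _

theorem reg_algebraMap (p : X) (c : k) : Reg p (algebraMap k X.functionField c) :=
  ⟨_, algebraMap_stalk k p c⟩

variable {k}

theorem Reg.mul {p : X} {x y : X.functionField} (hx : Reg p x) (hy : Reg p y) : Reg p (x * y) := by
  obtain ⟨a, rfl⟩ := hx
  obtain ⟨b, rfl⟩ := hy
  exact ⟨a * b, map_mul _ _ _⟩

theorem Reg.add {p : X} {x y : X.functionField} (hx : Reg p x) (hy : Reg p y) : Reg p (x + y) := by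
  obtain ⟨a, rfl⟩ := hx
  obtain ⟨b, rfl⟩ := hy
  exact ⟨a + b, map_add _ _ _⟩

theorem reg_zero (p : X) : Reg p (0 : X.functionField) := ⟨0, map_zero _⟩

theorem reg_one (p : X) : Reg p (1 : X.functionField) := ⟨1, map_one _⟩

theorem Reg.pow {p : X} {x : X.functionField} (hx : Reg p x) (n : ℕ) : Reg p (x ^ n) := by
  obtain ⟨a, rfl⟩ := hx
  exact ⟨a ^ n, map_pow _ _ _⟩

theorem UnitAt.reg {p : X} {x : X.functionField} (hx : UnitAt p x) : Reg p x :=
  let ⟨a, _, ha⟩ := hx
  ⟨a, ha⟩

theorem UnitAt.ne_zero {p : X} {x : X.functionField} (hx : UnitAt p x) : x ≠ 0 := by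
  obtain ⟨a, ha, rfl⟩ := hx
  exact (map_ne_zero_iff _ (IsFractionRing.injective (X.presheaf.stalk p) X.functionField)).2 ha.ne_zero

theorem UnitAt.inv {p : X} {x : X.functionField} (hx : UnitAt p x) : UnitAt p x⁻¹ := by
  obtain ⟨a, ha, rfl⟩ := hx
  refine ⟨_, (ha.unit⁻¹).isUnit, eq_inv_of_mul_eq_one_left ?_⟩
  rw [← map_mul, ha.val_inv_mul, map_one]

theorem UnitAt.mul {p : X} {x y : X.functionField} (hx : UnitAt p x) (hy : UnitAt p y) : UnitAt p (x * y) := by
  obtain ⟨a, ha, rfl⟩ := hx
  obtain ⟨b, hb, rfl⟩ := hy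
  exact ⟨a * b, ha.mul hb, map_mul _ _ _⟩

theorem UnitAt.pow {p : X} {x : X.functionField} (hx : UnitAt p x) (n : ℕ) : UnitAt p (x ^ n) := by
  obtain ⟨a, ha, rfl⟩ := hx
  exact ⟨a ^ n, ha.pow n, map_pow _ _ _⟩

variable (k)

/-- A Cartier divisor given by local equations, with sections whose loci are affine and cover. -/
structure Datum (g : ℕ) (H : X → X.functionField) where
  /-- The sections, as rational functions. -/
  u : Fin (g + 1) → X.functionField
  /-- Their loci. -/
  U : Fin (g + 1) → X.Opens
  ne_zero : ∀ p, H p ≠ 0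
  loc : ∀ p, ∃ W : X.Opens, p ∈ W ∧ ∀ q ∈ W, UnitAt q (H p / H q)
  mem : ∀ i p, Reg p (u i / H p)
  mem_iff : ∀ i p, p ∈ U i ↔ UnitAt p (u i / H p)
  affine : ∀ i, IsAffineOpen (U i)
  cover : ∀ p, ∃ i, p ∈ U i
  gen_mem : ∀ i, genericPoint X ∈ U i

/-- The pieces. -/
def pieces (H : X → X.functionField) : Graded k X.functionField where
  S m :=
    { carrier := {x | ∀ p, Reg p (x / H p ^ m)}
      zero_mem' := fun p => by simpa using reg_zero p
      add_mem' := fun hx hy p => by rw [add_div]; exact (hx p).add (hy p)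
      smul_mem' := fun c x hx p => by
        rw [Algebra.smul_def, mul_div_assoc]
        exact (reg_algebraMap k p c).mul (hx p) }
  one_mem := fun p => by simpa using reg_one p
  mul_mem := fun {a b x y} hx hy p => by
    rw [pow_add, mul_div_mul_comm]
    exact (hx p).mul (hy p)

variable {k} {g : ℕ} {H : X → X.functionField} (D : Datum g H)

theorem Datum.u_ne (i : Fin (g + 1)) : D.u i ≠ 0 := fun h => by
  have := ((D.mem_iff i _).1 (D.gen_mem i)).ne_zero
  simp [h] at this

theorem Datum.u_mem (i : Fin (g + 1)) : D.u i ∈ (pieces k H).S 1 := fun p => by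
  simpa using D.mem i p

/-- The affine coordinates. -/
def Datum.t (D : Datum g H) : Fin g → X.functionField := fun j => D.u j.succ / D.u 0

theorem Datum.t_mul (j : Fin g) : D.t j * D.u 0 = D.u j.succ := div_mul_cancel₀ _ (D.u_ne 0)

/-- A section over an affine open. -/
theorem exists_of_reg {W : X.Opens} (hW : genericPoint X ∈ W) {x : X.functionField} (h : ∀ q ∈ W, Reg q x) :
    ∃ s : Γ(X, W), X.presheaf.germ W _ hW s = x := by
  haveI : Nonempty W := ⟨⟨_, hW⟩⟩
  exact NormalSch.exists_section W x h

theorem reg_germ {W : X.Opens} (hW : genericPoint X ∈ W) (s : Γ(X, W)) {q : X} (hq : q ∈ W) :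
    Reg q (X.presheaf.germ W _ hW s) :=
  ⟨X.presheaf.germ W q hq s, congrFun (congrArg (fun φ : Γ(X, W) ⟶ X.functionField => (φ : Γ(X, W) → X.functionField))
    (X.presheaf.germ_stalkSpecializes hq (genericPoint_specializes q))) s⟩

theorem mem_of_open {W : X.Opens} {p : X} (hp : p ∈ W) : genericPoint X ∈ W :=
  (genericPoint_specializes p).mem_open W.isOpen hp

theorem UnitAt.mem_basicOpen {W : X.Opens} (hW : genericPoint X ∈ W) (s : Γ(X, W)) {q : X} (hq : q ∈ W)
    (h : q ∈ X.basicOpen s) : UnitAt q (X.presheaf.germ W _ hW s) :=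
  ⟨X.presheaf.germ W q hq s, (X.mem_basicOpen s q hq).1 h, congrFun (congrArg
    (fun φ : Γ(X, W) ⟶ X.functionField => (φ : Γ(X, W) → X.functionField))
    (X.presheaf.germ_stalkSpecializes hq (genericPoint_specializes q))) s⟩

/-- A function regular on a locus, times a power of the section, is a section. -/
theorem Datum.exists_extend [CompactSpace X] {b : X.functionField} (i : Fin (g + 1))
    (hb : ∀ p ∈ D.U i, Reg p b) : ∃ a, b * D.u i ^ a ∈ (pieces k H).S a := by
  have key : ∀ p : X, ∃ (W : X.Opens) (n : ℕ), p ∈ W ∧ ∀ q ∈ W, Reg q (b * (D.u i / H q) ^ n) := by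
    intro p
    obtain ⟨W₀, hpW₀, hloc⟩ := D.loc p
    obtain ⟨_, ⟨W, hW, rfl⟩, hpW, hle⟩ :=
      X.isBasis_affineOpens.exists_subset_of_mem_open hpW₀ W₀.isOpen
    have hη : genericPoint X ∈ W := mem_of_open hpW
    have hreg : ∀ q ∈ W, Reg q (D.u i / H p) := fun q hq => by
      have h2 := (D.mem i q).mul (hloc q (hle hq)).inv.reg
      rw [inv_div] at h2
      convert h2 using 1
      field_simp [D.ne_zero q, D.ne_zero p]
    obtain ⟨v, hv⟩ := exists_of_reg hη hreg
    have hv0 : v ≠ 0 := fun h => by
      rw [h, map_zero] at hv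
      exact div_ne_zero (D.u_ne i) (D.ne_zero p) hv.symm
    haveI : Nonempty W := ⟨⟨_, hη⟩⟩
    have hbo : genericPoint X ∈ X.basicOpen v := by
      rw [X.mem_basicOpen v _ hη, hv, isUnit_iff_ne_zero]
      exact div_ne_zero (D.u_ne i) (D.ne_zero p)
    have hbreg : ∀ q ∈ X.basicOpen v, Reg q b := fun q hq => by
      have hqW : q ∈ W := X.basicOpen_le v hq
      refine hb q ((D.mem_iff i q).2 ?_)
      have h1 := (hv ▸ UnitAt.mem_basicOpen hη v hqW hq).mul (hloc q (hle hqW))
      convert h1 using 1
      field_simp [D.ne_zero q, D.ne_zero p]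
    obtain ⟨c, hc⟩ := exists_of_reg hbo hbreg
    letI : Algebra Γ(X, W) Γ(X, X.basicOpen v) := (X.presheaf.map (homOfLE (X.basicOpen_le v)).op).hom.toAlgebra
    haveI : IsLocalization.Away v Γ(X, X.basicOpen v) := hW.isLocalization_basicOpen v
    obtain ⟨n, r, hr⟩ := IsLocalization.Away.surj v c
    refine ⟨W, n, hpW, fun q hq => ?_⟩
    have hr' := congrArg (X.presheaf.germ (X.basicOpen v) _ hbo) hr
    rw [map_mul, map_pow, hc] at hr'
    change b * (X.presheaf.germ (X.basicOpen v) _ hbo (X.presheaf.map (homOfLE (X.basicOpen_le v)).op v)) ^ n =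
      X.presheaf.germ (X.basicOpen v) _ hbo (X.presheaf.map (homOfLE (X.basicOpen_le v)).op r) at hr'
    rw [TopCat.Presheaf.germ_res_apply, TopCat.Presheaf.germ_res_apply, hv] at hr'
    have h1 := ((reg_germ hη r hq).mul ((hloc q (hle hq)).reg.pow n))
    rw [← hr', mul_assoc, ← mul_pow] at h1
    convert h1 using 1
    field_simp [D.ne_zero q, D.ne_zero p]
  choose W n hpW hW using key
  obtain ⟨T, hT⟩ := isCompact_univ.elim_finite_subcover (fun p => (W p : Set X)) (fun p => (W p).isOpen)
    fun p _ => Set.mem_iUnion.2 ⟨p, hpW p⟩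
  refine ⟨T.sup n, fun q => ?_⟩
  obtain ⟨p, hpT, hq⟩ := Set.mem_iUnion₂.1 (hT (Set.mem_univ q))
  have h1 := (hW p q hq).mul ((D.mem i q).pow (T.sup n - n p))
  rw [mul_assoc, ← pow_add, Nat.add_sub_cancel' (Finset.le_sup (f := n) hpT)] at h1
  rw [mul_div_assoc, ← div_pow]
  exact h1

theorem Datum.div_pow_reg (i : Fin (g + 1)) {m : ℕ} {x : X.functionField} (hx : x ∈ (pieces k H).S m) {p : X}
    (hp : p ∈ D.U i) : Reg p (x / D.u i ^ m) := by
  have h1 := (hx p).mul (((D.mem_iff i p).1 hp).inv.pow m).reg
  convert h1 using 1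
  rw [inv_div, div_pow]
  field_simp [D.ne_zero p, D.u_ne i]

/-- The field generated by an affine chart. -/
theorem exists_chart_gens [LocallyOfFiniteType (X ↘ Spec (CommRingCat.of k))] {U : X.Opens} (hU : IsAffineOpen U)
    (hη : genericPoint X ∈ U) :
    ∃ s : Set X.functionField, s.Finite ∧ (∀ x ∈ s, ∀ p ∈ U, Reg p x) ∧
      (∀ x, (∀ p ∈ U, Reg p x) → x ∈ Algebra.adjoin k s) ∧ Subfield.closure (Algebra.adjoin k s : Set X.functionField) = ⊤ := by
  classical
  haveI : Nonempty U := ⟨⟨_, hη⟩⟩
  let ρ : k →+* Γ(X, U) :=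
    ((X ↘ Spec (CommRingCat.of k)).appLE ⊤ U le_top).hom.comp (Scheme.ΓSpecIso (CommRingCat.of k)).inv.hom
  have hρ : ρ.FiniteType :=
    RingHom.FiniteType.comp ((X ↘ Spec (CommRingCat.of k)).finiteType_appLE (isAffineOpen_top _) hU le_top)
      (RingHom.FiniteType.of_surjective _
        (ConcreteCategory.bijective_of_isIso (Scheme.ΓSpecIso (CommRingCat.of k)).inv).2)
  letI := ρ.toAlgebra
  haveI : Algebra.FiniteType k Γ(X, U) := hρ
  obtain ⟨s, hs⟩ := Algebra.FiniteType.out (R := k) (A := Γ(X, U))
  have hcomp : ∀ c, X.presheaf.germ U (genericPoint X) hη (ρ c) = algebraMap k X.functionField c := by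
    intro c
    show X.presheaf.germ U _ hη ((X ↘ Spec (CommRingCat.of k)).appLE ⊤ U le_top _) = _
    rw [Scheme.Hom.appLE]
    erw [TopCat.Presheaf.germ_res_apply]
    rfl
  let φ : Γ(X, U) →ₐ[k] X.functionField :=
    { toRingHom := (X.presheaf.germ U (genericPoint X) hη).hom
      commutes' := hcomp }
  refine ⟨φ '' s, s.finite_toSet.image _, ?_, fun x hx => ?_, ?_⟩
  · rintro _ ⟨a, -, rfl⟩ p hp
    exact reg_germ hη a hp
  · obtain ⟨a, rfl⟩ := exists_of_reg hη hx
    rw [Algebra.adjoin_image, hs]
    exact ⟨a, Algebra.mem_top, rfl⟩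
  · rw [Algebra.adjoin_image, hs]
    refine eq_top_iff.2 fun x _ => ?_
    haveI := functionField_isFractionRing_of_isAffineOpen X U hU
    obtain ⟨a, b, -, rfl⟩ := IsFractionRing.div_surjective (A := Γ(X, U)) x
    exact div_mem (Subfield.subset_closure ⟨a, Algebra.mem_top, rfl⟩) (Subfield.subset_closure ⟨b, Algebra.mem_top, rfl⟩)

variable [IsProper (X ↘ Spec (CommRingCat.of k))]

/-- A function regular on a locus is integral over the ratios. -/
theorem Datum.isIntegral (c : Fin (g + 1)) (R : Subalgebra k X.functionField) (hR : ∀ i, D.u i / D.u c ∈ R)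
    {x : X.functionField} (hx : ∀ p ∈ D.U c, Reg p x) : IsIntegral R x := by
  have hcl : Subring.closure (R : Set X.functionField) = R.toSubring := Subring.closure_eq R.toSubring
  have h : x ∈ (integralClosure (Subring.closure (R : Set X.functionField)) X.functionField).toSubring := by
    rw [← iInf_valuationSubring_superset]
    refine Subring.mem_iInf.2 fun V => ?_
    obtain ⟨V, hV⟩ := V
    let s := X ↘ Spec (CommRingCat.of k)
    let η := genericPoint X
    have hk : ∀ a : k, algebraMap k X.functionField a ∈ V := fun a => hV (R.algebraMap_mem a)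
    let r : k →+* V := (algebraMap k X.functionField).codRestrict V.toSubring hk
    have hw : X.fromSpecStalk η ≫ s = DVRCrit.incl V ≫ Spec.map (CommRingCat.ofHom r) := by
      rw [NormalSch.fromSpecStalk_over, ← Spec.map_comp]
      rfl
    let Sq : ValuativeCommSq s :=
      { R := V, K := X.functionField, i₁ := X.fromSpecStalk η, i₂ := Spec.map (CommRingCat.ofHom r),
        commSq := ⟨hw⟩ }
    obtain ⟨⟨l, hl, -⟩⟩ := (((UniversallyClosed.eq_valuativeCriterion.le _ _ _) inferInstance).1 Sq).exists_lift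
    have hl' : DVRCrit.incl V ≫ (show Spec (CommRingCat.of V) ⟶ X from l) = X.fromSpecStalk η := hl
    let p := (show Spec (CommRingCat.of V) ⟶ X from l) (closedPoint V)
    let θ := Scheme.stalkClosedPointTo (show Spec (CommRingCat.of V) ⟶ X from l)
    have hval : ∀ a : X.presheaf.stalk p, algebraMap (X.presheaf.stalk p) X.functionField a =
        ((θ a : V) : X.functionField) := DVRCrit.stalk_of_morphism V _ hl'
    obtain ⟨j, hj⟩ := D.cover p
    obtain ⟨a, ha⟩ := D.mem c p
    obtain ⟨b, hb, hbe⟩ := (D.mem_iff j p).1 hj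
    have hpc : p ∈ D.U c := by
      refine (D.mem_iff c p).2 ⟨a, ?_, ha⟩
      refine isUnit_of_map_unit θ.hom a ?_
      have hq : D.u j / D.u c ∈ V := hV (hR j)
      have he : (θ a : V) * (⟨_, hq⟩ : V) = θ b := Subtype.ext (by
        show ((θ a : V) : X.functionField) * _ = _
        rw [← hval, ha, ← hval, hbe]
        field_simp [D.u_ne c, D.ne_zero p])
      have hu : IsUnit (θ b : V) := hb.map θ.hom
      rw [← he] at hu
      exact isUnit_of_mul_isUnit_left hu
    obtain ⟨z, hz⟩ := hx p hpc
    rw [← hz, hval]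
    exact SetLike.coe_mem _
  have h' : IsIntegral (Subring.closure (R : Set X.functionField)) x := h
  rw [hcl] at h'
  exact h'

theorem Datum.ratio_mem (i : Fin (g + 1)) : D.u i / D.u 0 ∈ Algebra.adjoin k (Set.range D.t) := by
  cases i using Fin.cases with
  | zero => rw [div_self (D.u_ne 0)]; exact Subalgebra.one_mem _
  | succ j => exact Algebra.subset_adjoin ⟨j, rfl⟩

theorem Datum.ratio_mem_chart (c : Fin g) (i : Fin (g + 1)) :
    D.u i / D.u c.succ ∈ Algebra.adjoin k (insert (D.t c)⁻¹ (Set.range fun j => D.t j / D.t c)) := by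
  cases i using Fin.cases with
  | zero => exact Algebra.subset_adjoin (Or.inl (inv_div _ _).symm)
  | succ j =>
    refine Algebra.subset_adjoin (Or.inr ⟨j, ?_⟩)
    exact div_div_div_cancel_right₀ (D.u_ne 0) _ _

include D in
/-- The function field is finite over the coordinates. -/
theorem Datum.finite : FiniteDimensional (Fld k D.t) X.functionField := by
  obtain ⟨s, hsf, hsreg, -, hgen⟩ := exists_chart_gens (k := k) (D.affine 0) (D.gen_mem 0)
  let F := Fld k D.t
  have hint : ∀ x ∈ s, IsIntegral F x := fun x hx => by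
    obtain ⟨P, hP, hP0⟩ := D.isIntegral 0 (Algebra.adjoin k (Set.range D.t)) D.ratio_mem (hsreg x hx)
    let ι : Algebra.adjoin k (Set.range D.t) →+* F :=
      RingHom.codRestrict (Algebra.adjoin k (Set.range D.t)).val.toRingHom F fun z => adjoin_le_Fld z.2
    refine ⟨P.map ι, hP.map _, ?_⟩
    rw [Polynomial.eval₂_map]
    exact hP0
  haveI : Finite s := hsf.to_subtype
  have : FiniteDimensional F (IntermediateField.adjoin F s) := IntermediateField.finiteDimensional_adjoin hint
  have htop : IntermediateField.adjoin F s = ⊤ := by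
    refine eq_top_iff.2 fun x _ => ?_
    have h1 : Subfield.closure (Algebra.adjoin k s : Set X.functionField) ≤ (IntermediateField.adjoin F s).toSubfield :=
      Subfield.closure_le.2 fun z hz =>
        Algebra.adjoin_le (S := ((IntermediateField.adjoin F s).restrictScalars k).toSubalgebra)
          (IntermediateField.subset_adjoin F s) hz
    exact h1 (hgen.ge (Subfield.mem_top x))
  rw [htop] at this
  exact IntermediateField.topEquiv.toLinearEquiv.finiteDimensional

include D in
theorem Datum.algebraicIndependent (htr : Algebra.trdeg k X.functionField = (g : Cardinal.{u})) :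
    AlgebraicIndependent k D.t := by
  haveI := D.finite (k := k)
  haveI : Algebra.IsAlgebraic (Fld k D.t) X.functionField := Algebra.IsAlgebraic.of_finite _ _
  haveI : Algebra.IsAlgebraic (Algebra.adjoin k (Set.range D.t)) X.functionField :=
    IntermediateField.isAlgebraic_adjoin_iff_top.1 inferInstance
  refine (Algebra.IsAlgebraic.isTranscendenceBasis_of_lift_le_trdeg_of_finite k D.t ?_).1
  simp [htr]

include D in
/-- The bounds on the Hilbert function. -/
theorem Datum.bounds (htr : Algebra.trdeg k X.functionField = (g : Cardinal.{u})) :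
    ∃ a e : ℕ, (∀ m, Module.Finite k ((pieces k H).S m)) ∧
      (∀ m, Module.finrank (Fld k D.t) X.functionField * (m + g).choose g ≤
        Module.finrank k ((pieces k H).S (m + a))) ∧
      ∀ m, Module.finrank k ((pieces k H).S m) ≤
        Module.finrank (Fld k D.t) X.functionField * (m + e + g).choose g := by
  classical
  haveI : CompactSpace X := QuasiCompact.compactSpace_of_compactSpace (X ↘ Spec (CommRingCat.of k))
  haveI := D.finite (k := k)
  have hti := D.algebraicIndependent (k := k) htr
  obtain ⟨s₀, hs₀f, hs₀reg, hs₀all, hgen⟩ := exists_chart_gens (k := k) (D.affine 0) (D.gen_mem 0)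
  -- a basis of elements regular on the first chart
  have hadj : ∀ y ∈ Algebra.adjoin k s₀, ∀ p ∈ D.U 0, Reg p y := fun y hy p hp => by
    induction hy using Algebra.adjoin_induction with
    | mem x hx => exact hs₀reg x hx p hp
    | algebraMap r => exact reg_algebraMap k p r
    | add x y _ _ hx hy => exact hx.add hy
    | mul x y _ _ hx hy => exact hx.mul hy
  have hspan : Submodule.span (Fld k D.t) (Algebra.adjoin k s₀ : Set X.functionField) = ⊤ := by
    let A := Algebra.adjoin (Fld k D.t) (Algebra.adjoin k s₀ : Set X.functionField)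
    have hA : Subalgebra.toSubmodule A = Submodule.span (Fld k D.t) (Algebra.adjoin k s₀ : Set X.functionField) := by
      rw [Algebra.adjoin_eq_span]
      exact congrArg (fun M : Submonoid X.functionField => Submodule.span (Fld k D.t) (M : Set X.functionField))
        (Submonoid.closure_eq (Algebra.adjoin k s₀).toSubsemiring.toSubmonoid)
    haveI : Algebra.IsAlgebraic (Fld k D.t) X.functionField := Algebra.IsAlgebraic.of_finite _ _
    let E : IntermediateField (Fld k D.t) X.functionField :=
      A.toIntermediateField fun x hx => A.inv_mem_of_algebraic (x := ⟨x, hx⟩) (Algebra.IsAlgebraic.isAlgebraic x)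
    rw [← hA]
    refine eq_top_iff.2 fun x _ => ?_
    have h1 : Subfield.closure (Algebra.adjoin k s₀ : Set X.functionField) ≤ E.toSubfield :=
      Subfield.closure_le.2 fun z hz => Algebra.subset_adjoin hz
    exact h1 (hgen.ge (Subfield.mem_top x))
  obtain ⟨b, hb, hbspan, hbli⟩ := exists_linearIndependent (Fld k D.t) (Algebra.adjoin k s₀ : Set X.functionField)
  rw [hspan] at hbspan
  let bb : Module.Basis b (Fld k D.t) X.functionField := Module.Basis.mk hbli (by rw [Subtype.range_coe]; exact hbspan.ge)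
  haveI : Fintype b := FiniteDimensional.fintypeBasisIndex bb
  let δ := Module.finrank (Fld k D.t) X.functionField
  let w : Module.Basis (Fin δ) (Fld k D.t) X.functionField :=
    bb.reindex (Fintype.equivFinOfCardEq (Module.finrank_eq_card_basis bb).symm)
  have hw : ∀ i, w i ∈ Algebra.adjoin k s₀ := fun i => by
    simp only [w, Module.Basis.reindex_apply, bb, Module.Basis.mk_apply]
    exact hb (Subtype.coe_prop _)
  choose a ha using fun i => D.exists_extend (k := k) 0 (b := w i) (hadj _ (hw i))
  have hmono : ∀ i, w i * D.u 0 ^ (Finset.univ.sup a) ∈ (pieces k H).S (Finset.univ.sup a) := fun i => by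
    have h1 := (pieces k H).mul_mem (ha i) ((pieces k H).pow_mem (D.u_mem (k := k) 0) (Finset.univ.sup a - a i))
    rw [one_mul, mul_assoc, ← pow_add, Nat.add_sub_cancel' (Finset.le_sup (f := a) (Finset.mem_univ i))] at h1
    exact h1
  -- the upper bound
  obtain ⟨e, he⟩ : ∃ e, ∀ m, Module.Finite k ((pieces k H).S m) ∧
      Module.finrank k ((pieces k H).S m) ≤ δ * (m + e + g).choose g := by
    by_cases hg : g = 0
    · subst hg
      refine ⟨0, fun m => (pieces k H).finrank_le_of_coord (e := 0) hti w (D.u_ne 0) one_ne_zero m fun x _ i => ?_⟩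
      rw [one_mul]
      have hbot : Fld k D.t = ⊥ := by rw [Fld, Set.range_eq_empty D.t, IntermediateField.adjoin_empty]
      obtain ⟨c, hc⟩ := IntermediateField.mem_bot.1 (hbot.le (w.repr (x / D.u 0 ^ m) i).2)
      exact ⟨MvPolynomial.C c, by simp [MvPolynomial.mem_restrictTotalDegree], by rw [← hc]; simp⟩
    · let c : Fin g := ⟨0, Nat.pos_of_ne_zero hg⟩
      obtain ⟨s₁, hs₁f, hs₁reg, hs₁all, -⟩ := exists_chart_gens (k := k) (D.affine c.succ) (D.gen_mem c.succ)
      refine exists_upper hti (pieces k H) w (D.u_ne 0) c s₀ hs₀f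
        (fun x hx => D.isIntegral 0 _ D.ratio_mem (hs₀reg x hx)) s₁ hs₁f
        (fun x hx => D.isIntegral c.succ _ (D.ratio_mem_chart c) (hs₁reg x hx))
        (fun m x hx => hs₀all _ fun p hp => D.div_pow_reg 0 hx hp)
        fun m x hx => hs₁all _ fun p hp => ?_
      rw [D.t_mul]
      exact D.div_pow_reg c.succ hx hp
  refine ⟨Finset.univ.sup a, e, fun m => (he m).1, fun m => ?_, fun m => (he m).2⟩
  haveI := (he (m + Finset.univ.sup a)).1
  exact (pieces k H).mul_choose_le hti (D.u_ne 0) (D.u_mem 0)
    (fun j => by rw [D.t_mul]; exact D.u_mem j.succ) (fun i => w i) w.linearIndependent hmono m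

end Groth.Agent.AVLib.Deg
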