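import Groth.Agent.AVLib.Deg.Div
import Groth.Agent.AmpleEmb.ComposeRel
import Groth.Agent.AmpleEmb.Sections
import Groth.Agent.ParaFLib.ExtendMain

/-!
# Invertible modules as Cartier divisors
-/

set_option autoImplicit false
set_option backward.isDefEq.respectTransparency false

universe u

open CategoryTheory AlgebraicGeometry TopologicalSpace Opposite
open Groth.Agent.ParaFLib Groth.Agent.AmpleLib Groth.Agent.PullbackMod

noncomputable section

namespace Groth.Agent.AVLib.Deg

variable {X : Scheme.{u}} [IsIntegral X]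

/-- A basis near the generic point. -/
structure Frame (M : X.Modules) where
  /-- The open. -/
  W : X.Opens
  /-- The basis. -/
  e : Γ(M, W)
  gen : Gen W e
  mem : genericPoint X ∈ W

theorem exists_frame {M : X.Modules} (hM : PicF.IsInvertible M) : Nonempty (Frame M) :=
  let ⟨W, e, hη, he⟩ := exists_gen_nhd hM (genericPoint X)
  ⟨⟨W, e, he, hη⟩⟩

variable {M : X.Modules} (F : Frame M)

/-- The coordinate of a section at the generic point. -/
def Frame.coord {W : X.Opens} (s : Γ(M, W)) (h : genericPoint X ∈ W) : X.functionField :=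
  (Equiv.ofBijective _ (F.gen.bijective_germ (genericPoint X) F.mem)).symm (M.presheaf.germ W _ h s)

theorem Frame.coord_spec {W : X.Opens} (s : Γ(M, W)) (h : genericPoint X ∈ W) :
    F.coord s h • M.presheaf.germ F.W _ F.mem F.e = M.presheaf.germ W _ h s :=
  (Equiv.ofBijective _ (F.gen.bijective_germ (genericPoint X) F.mem)).apply_symm_apply _

theorem Frame.coord_eq {W : X.Opens} (s : Γ(M, W)) (h : genericPoint X ∈ W) {x : X.functionField}
    (hx : x • M.presheaf.germ F.W _ F.mem F.e = M.presheaf.germ W _ h s) : F.coord s h = x :=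
  (F.gen.bijective_germ (genericPoint X) F.mem).1 ((F.coord_spec s h).trans hx.symm)

theorem Frame.coord_res {W W' : X.Opens} (hle : W' ≤ W) (s : Γ(M, W)) (h : genericPoint X ∈ W') :
    F.coord (M.presheaf.map (homOfLE hle).op s) h = F.coord s (hle h) :=
  F.coord_eq _ _ (by rw [F.coord_spec, TopCat.Presheaf.germ_res_apply])

theorem Frame.coord_smul {W : X.Opens} (a : Γ(X, W)) (s : Γ(M, W)) (h : genericPoint X ∈ W) :
    F.coord (a • s) h = X.presheaf.germ W _ h a * F.coord s h :=
  F.coord_eq _ _ (by rw [mul_smul, F.coord_spec, germ_smul'])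

theorem Frame.coord_e : F.coord F.e F.mem = 1 := F.coord_eq _ _ (one_smul _ _)

/-- A section is a multiple of the basis. -/
theorem Frame.exists_smul {W : X.Opens} (s : Γ(M, W)) (h : genericPoint X ∈ W) :
    ∃ a : Γ(X, W ⊓ F.W),
      a • M.presheaf.map (homOfLE (inf_le_right : W ⊓ F.W ≤ F.W)).op F.e =
        M.presheaf.map (homOfLE (inf_le_left : W ⊓ F.W ≤ W)).op s ∧
      X.presheaf.germ (W ⊓ F.W) _ ⟨h, F.mem⟩ a = F.coord s h := by
  obtain ⟨a, ha⟩ := (F.gen (W ⊓ F.W) inf_le_right).2 (M.presheaf.map (homOfLE (inf_le_left : W ⊓ F.W ≤ W)).op s)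
  refine ⟨a, ha, (F.coord_eq s h ?_).symm⟩
  have := congrArg (M.presheaf.germ (W ⊓ F.W) (genericPoint X) ⟨h, F.mem⟩) ha
  rw [germ_smul', TopCat.Presheaf.germ_res_apply, TopCat.Presheaf.germ_res_apply] at this
  exact this

theorem Frame.coord_ne_zero {W : X.Opens} {s : Γ(M, W)} (hs : Gen W s) (h : genericPoint X ∈ W) :
    F.coord s h ≠ 0 := fun h0 => by
  have h1 := F.coord_spec s h
  rw [h0, zero_smul] at h1
  have h2 : (1 : X.presheaf.stalk (genericPoint X)) = 0 :=
    (hs.bijective_germ _ h).1 (show (1 : X.presheaf.stalk (genericPoint X)) • _ = (0 : X.presheaf.stalk (genericPoint X)) • _ by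
      rw [one_smul, zero_smul, ← h1])
  exact one_ne_zero h2

/-- Two bases differ by a unit. -/
theorem Frame.unitAt {W W' : X.Opens} {s : Γ(M, W)} (hs : Gen W s) {s' : Γ(M, W')} (hs' : Gen W' s') {q : X}
    (hq : q ∈ W) (hq' : q ∈ W') :
    UnitAt q (F.coord s (mem_of_open hq) / F.coord s' (mem_of_open hq')) := by
  obtain ⟨a, ha⟩ := (hs' (W ⊓ W') inf_le_right).2 (M.presheaf.map (homOfLE (inf_le_left : W ⊓ W' ≤ W)).op s)
  have hη : genericPoint X ∈ W ⊓ W' := mem_of_open ⟨hq, hq'⟩
  have hc := congrArg (fun v => F.coord v hη) ha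
  simp only [F.coord_smul, F.coord_res] at hc
  rw [← hc, mul_div_assoc, div_self (F.coord_ne_zero hs' _), mul_one]
  refine UnitAt.mem_basicOpen hη a ⟨hq, hq'⟩ ((X.mem_basicOpen a q ⟨hq, hq'⟩).2 ?_)
  have hg := congrArg (M.presheaf.germ (W ⊓ W') q ⟨hq, hq'⟩) ha
  rw [germ_smul', TopCat.Presheaf.germ_res_apply, TopCat.Presheaf.germ_res_apply] at hg
  rw [← bijective_smul_iff (hs'.bijective_germ q hq'), hg]
  exact hs.bijective_germ q hq

section Divisor

variable (hM : PicF.IsInvertible M)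

/-- The chosen neighbourhoods. -/
def nb (hM : PicF.IsInvertible M) (p : X) : X.Opens := (exists_gen_nhd hM p).choose

/-- The chosen bases. -/
def loc (hM : PicF.IsInvertible M) (p : X) : Γ(M, nb hM p) := (exists_gen_nhd hM p).choose_spec.choose

theorem mem_nb (p : X) : p ∈ nb hM p := (exists_gen_nhd hM p).choose_spec.choose_spec.1

theorem gen_loc (p : X) : Gen (nb hM p) (loc hM p) := (exists_gen_nhd hM p).choose_spec.choose_spec.2

/-- The local equations of the divisor of the frame. -/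
def Frame.eqn (p : X) : X.functionField := F.coord (loc hM p) (mem_of_open (mem_nb hM p))

/-- The rational function of a global section. -/
def Frame.fn (s : Coh.structureModule X ⟶ M) : X.functionField := F.coord (sec s) trivial

theorem Frame.fn_div (s : Coh.structureModule X ⟶ M) (p : X) :
    Reg p (F.fn s / F.eqn hM p) ∧ (p ∈ CohB1.genLocus M s ↔ UnitAt p (F.fn s / F.eqn hM p)) := by
  obtain ⟨a, ha⟩ := (gen_loc hM p (nb hM p) le_rfl).2 (resT (sec s) (nb hM p))
  simp only [res_self] at ha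
  have hη : genericPoint X ∈ nb hM p := mem_of_open (mem_nb hM p)
  have hc := congrArg (fun v => F.coord v hη) ha
  simp only [F.coord_smul, resT, F.coord_res] at hc
  have e : F.fn s / F.eqn hM p = X.presheaf.germ (nb hM p) _ hη a := by
    rw [Frame.fn, Frame.eqn, ← hc, mul_div_assoc, div_self (F.coord_ne_zero (gen_loc hM p) _), mul_one]
  rw [e]
  refine ⟨reg_germ hη a (mem_nb hM p), ?_, ?_⟩
  · intro h
    exact UnitAt.mem_basicOpen hη a (mem_nb hM p)
      ((genLocus_inf_eq_basicOpen s (gen_loc hM p) ha).le ⟨h, mem_nb hM p⟩)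
  · rintro ⟨b, hb, hbe⟩
    have hb' : b = X.presheaf.germ (nb hM p) p (mem_nb hM p) a := by
      refine IsFractionRing.injective (X.presheaf.stalk p) X.functionField (hbe.trans ?_)
      exact (congrFun (congrArg (fun φ : Γ(X, nb hM p) ⟶ X.functionField => (φ : Γ(X, nb hM p) → X.functionField))
        (X.presheaf.germ_stalkSpecializes (mem_nb hM p) (genericPoint_specializes p))) a).symm
    exact ((genLocus_inf_eq_basicOpen s (gen_loc hM p) ha).ge
      ((X.mem_basicOpen a p (mem_nb hM p)).2 (hb' ▸ hb))).1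

theorem Frame.eqn_loc (p : X) :
    ∃ W : X.Opens, p ∈ W ∧ ∀ q ∈ W, UnitAt q (F.eqn hM p / F.eqn hM q) :=
  ⟨nb hM p, mem_nb hM p, fun q hq => F.unitAt (gen_loc hM p) (gen_loc hM q) hq (mem_nb hM q)⟩

/-- The divisor datum of sections with affine loci. -/
theorem exists_datum (k : Type u) [Field k] [X.Over (Spec (CommRingCat.of k))] {g : ℕ}
    (s : Fin (g + 1) → (Coh.structureModule X ⟶ M)) (haff : ∀ i, IsAffineOpen (CohB1.genLocus M (s i)))
    (hcov : ∀ p, ∃ i, p ∈ CohB1.genLocus M (s i)) (hη : ∀ i, genericPoint X ∈ CohB1.genLocus M (s i)) :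
    ∃ D : Datum g (F.eqn hM), D.u = fun i => F.fn (s i) :=
  ⟨{ u := fun i => F.fn (s i)
     U := fun i => CohB1.genLocus M (s i)
     ne_zero := fun p => F.coord_ne_zero (gen_loc hM p) _
     loc := F.eqn_loc hM
     mem := fun i p => (F.fn_div hM (s i) p).1
     mem_iff := fun i p => (F.fn_div hM (s i) p).2
     affine := haff
     cover := hcov
     gen_mem := hη }, rfl⟩

end Divisor

/-- The map of function fields induced by an endomorphism fixing the generic point. -/
def ffMap (f : X ⟶ X) (hη : f (genericPoint X) = genericPoint X) : X.functionField →+* X.functionField :=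
  ((X.presheaf.stalkCongr (Inseparable.of_eq hη)).inv ≫ f.stalkMap (genericPoint X)).hom

theorem ffMap_germ (f : X ⟶ X) (hη : f (genericPoint X) = genericPoint X) {W : X.Opens}
    (hW : genericPoint X ∈ W) (a : Γ(X, W)) :
    ffMap f hη (X.presheaf.germ W _ hW a) =
      X.presheaf.germ (f ⁻¹ᵁ W) _ (show f (genericPoint X) ∈ W from hη.symm ▸ hW) (f.app W a) := by
  show (f.stalkMap (genericPoint X)) ((X.presheaf.stalkCongr (Inseparable.of_eq hη)).inv _) = _
  have h1 : (X.presheaf.stalkCongr (Inseparable.of_eq hη)).inv (X.presheaf.germ W _ hW a) =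
      X.presheaf.germ W (f (genericPoint X)) (hη.symm ▸ hW) a :=
    congrFun (congrArg (fun φ : Γ(X, W) ⟶ X.presheaf.stalk (f (genericPoint X)) =>
      (φ : Γ(X, W) → X.presheaf.stalk (f (genericPoint X))))
      (X.presheaf.germ_stalkSpecializes hW (Inseparable.of_eq hη).specializes)) a
  rw [h1, Scheme.Hom.germ_stalkMap_apply]

/-- The unit at a point pulls back. -/
theorem unitAt_ffMap (f : X ⟶ X) (hη : f (genericPoint X) = genericPoint X) {q : X} {x : X.functionField}
    (hx : Reg (f q) x) : Reg q (ffMap f hη x) ∧ (UnitAt (f q) x ↔ UnitAt q (ffMap f hη x)) := by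
  obtain ⟨a, rfl⟩ := hx
  have key : ∀ a, ffMap f hη (algebraMap (X.presheaf.stalk (f q)) X.functionField a) =
      algebraMap (X.presheaf.stalk q) X.functionField (f.stalkMap q a) := fun a => by
    obtain ⟨W, hW, b, rfl⟩ := X.presheaf.exists_germ_eq a
    haveI : Nonempty W := ⟨⟨_, hW⟩⟩
    rw [Scheme.Hom.germ_stalkMap_apply]
    have e1 : algebraMap (X.presheaf.stalk (f q)) X.functionField (X.presheaf.germ W (f q) hW b) =
        X.presheaf.germ W (genericPoint X) (mem_of_open hW) b :=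
      congrFun (congrArg (fun φ : Γ(X, W) ⟶ X.functionField => (φ : Γ(X, W) → X.functionField))
        (X.presheaf.germ_stalkSpecializes hW (genericPoint_specializes (f q)))) b
    have e2 : algebraMap (X.presheaf.stalk q) X.functionField (X.presheaf.germ (f ⁻¹ᵁ W) q hW (f.app W b)) =
        X.presheaf.germ (f ⁻¹ᵁ W) (genericPoint X) (mem_of_open (show q ∈ f ⁻¹ᵁ W from hW)) (f.app W b) :=
      congrFun (congrArg (fun φ : Γ(X, f ⁻¹ᵁ W) ⟶ X.functionField => (φ : Γ(X, f ⁻¹ᵁ W) → X.functionField))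
        (X.presheaf.germ_stalkSpecializes (show q ∈ f ⁻¹ᵁ W from hW) (genericPoint_specializes q))) (f.app W b)
    rw [e1, e2, ffMap_germ]
  rw [key]
  refine ⟨⟨_, rfl⟩, ?_, ?_⟩
  · rintro ⟨b, hb, hbe⟩
    exact ⟨f.stalkMap q b, hb.map _, by rw [← key, hbe, key]⟩
  · rintro ⟨b, hb, hbe⟩
    rw [IsFractionRing.injective (X.presheaf.stalk q) X.functionField hbe] at hb
    exact ⟨a, isUnit_of_map_unit (f.stalkMap q).hom a hb, rfl⟩

/-- The divisors of `f^* M ≅ M^N` differ by a constant. -/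
theorem Frame.exists_scaling (hM : PicF.IsInvertible M) (f : X ⟶ X) (hη : f (genericPoint X) = genericPoint X)
    {N : ℕ} (θ : (Scheme.Modules.pullback f).obj M ≅ CohB1.tensorPow M N) :
    ∃ lam : X.functionField, lam ≠ 0 ∧
      ∀ q, UnitAt q (ffMap f hη (F.eqn hM (f q)) * lam / F.eqn hM q ^ N) := by
  let G : Frame (CohB1.tensorPow M N) := ⟨F.W, powLoc F.e N, gen_powLoc F.gen N, F.mem⟩
  have hpull : ∀ {W : X.Opens} {s : Γ(M, W)}, Gen W s →
      Gen (L := CohB1.tensorPow M N) (f ⁻¹ᵁ W) (θ.hom.app (f ⁻¹ᵁ W) (pullMap f M le_rfl s)) :=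
    fun hs => gen_of_modIso θ (AmpleEmb.gen_pullMap f hM hs)
  have hmem : genericPoint X ∈ f ⁻¹ᵁ F.W := show f _ ∈ F.W from hη.symm ▸ F.mem
  refine ⟨G.coord (θ.hom.app _ (pullMap f M le_rfl F.e)) hmem, G.coord_ne_zero (hpull F.gen) _, fun q => ?_⟩
  let W := nb hM (f q)
  have hq : q ∈ f ⁻¹ᵁ W := mem_nb hM (f q)
  have h1 := G.unitAt (hpull (gen_loc hM (f q))) (gen_powLoc (gen_loc hM q) N) hq (mem_nb hM q)
  obtain ⟨a, ha, hae⟩ := F.exists_smul (loc hM (f q)) (mem_of_open (mem_nb hM (f q)))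
  have hηW : genericPoint X ∈ W := mem_of_open (mem_nb hM (f q))
  have h2 : G.coord (θ.hom.app _ (pullMap f M le_rfl (loc hM (f q)))) (mem_of_open hq) =
      ffMap f hη (F.eqn hM (f q)) * G.coord (θ.hom.app _ (pullMap f M le_rfl F.e)) hmem := by
    have hV : genericPoint X ∈ f ⁻¹ᵁ (W ⊓ F.W) := show f _ ∈ W ⊓ F.W from hη.symm ▸ ⟨hηW, F.mem⟩
    have e := congrArg (fun v => G.coord (θ.hom.app (f ⁻¹ᵁ (W ⊓ F.W)) (pullMap f M le_rfl v)) hV) ha
    simp only [pullMap_smul, Scheme.Modules.Hom.app_smul, G.coord_smul] at e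
    rw [← pullMap_res f M (le_rfl : f ⁻¹ᵁ W ≤ f ⁻¹ᵁ W) inf_le_left (f.preimage_mono inf_le_left) le_rfl,
      ← pullMap_res f M (le_rfl : f ⁻¹ᵁ F.W ≤ f ⁻¹ᵁ F.W) inf_le_right (f.preimage_mono inf_le_right) le_rfl,
      DCohLib.app_natural θ.hom, DCohLib.app_natural θ.hom, G.coord_res, G.coord_res] at e
    rw [← e, Frame.eqn, ← hae, ffMap_germ f hη (W := W ⊓ F.W) ⟨hηW, F.mem⟩, Scheme.Hom.app_eq_appLE]
  have h3 : G.coord (powLoc (loc hM q) N) (mem_of_open (mem_nb hM q)) = F.eqn hM q ^ N := by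
    obtain ⟨b, hb, hbe⟩ := F.exists_smul (loc hM q) (mem_of_open (mem_nb hM q))
    have e := congrArg (fun v => G.coord (W := nb hM q ⊓ F.W) (powLoc v N) ⟨mem_of_open (mem_nb hM q), F.mem⟩) hb
    simp only [powLoc_smul, G.coord_smul, map_pow] at e
    rw [hbe, ← powLoc_res inf_le_right F.e N, ← powLoc_res inf_le_left (loc hM q) N, G.coord_res, G.coord_res,
      show G.coord (powLoc F.e N) F.mem = 1 from G.coord_e, mul_one] at e
    exact e.symm
  rw [h2, h3] at h1
  exact h1

end Groth.Agent.AVLib.Deg
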