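import Groth.Agent.AVLib.Deg.Frame
import Groth.Agent.AmpleEmb.FiniteSet
import Groth.Agent.DimFormulaLib.FibrePoints

/-!
# Few sections without common zeros
-/

set_option autoImplicit false
set_option backward.isDefEq.respectTransparency false

universe u

open CategoryTheory AlgebraicGeometry TopologicalSpace Opposite
open Groth.Agent.ParaFLib Groth.Agent.AmpleLib Groth.Agent.DimFormulaLib

noncomputable section

namespace Groth.Agent.AVLib.Deg

theorem exists_sections (k : Type u) [Field k] {X : Scheme.{u}} [X.Over (Spec (CommRingCat.of k))] [IsIntegral X]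
    [IsProper (X ↘ Spec (CommRingCat.of k))] {L : X.Modules} (hL : CohB1.IsAmple L) {g : ℕ}
    (hdim : topologicalKrullDim X = g) :
    ∃ (D : ℕ) (s : Fin (g + 1) → (Coh.structureModule X ⟶ CohB1.tensorPow L (D + 1))),
      (∀ i, IsAffineOpen (CohB1.genLocus _ (s i))) ∧ (∀ p, ∃ i, p ∈ CohB1.genLocus _ (s i)) ∧
      ∀ i, genericPoint X ∈ CohB1.genLocus _ (s i) := by
  classical
  haveI : CompactSpace X := QuasiCompact.compactSpace_of_compactSpace (X ↘ Spec (CommRingCat.of k))
  haveI : IsLocallyNoetherian X := LocallyOfFiniteType.isLocallyNoetherian (X ↘ Spec (CommRingCat.of k))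
  haveI : IsNoetherian X := ⟨⟩
  let h : X → ℕ∞ := fun p => Order.height p
  have hle : ∀ p, h p ≤ g := fun p => by
    have h1 := topologicalKrullDim_closure_singleton p
    have h2 := topologicalKrullDim_subspace_le X (closure ({p} : Set X))
    rw [h1, hdim] at h2
    exact WithBot.coe_le_coe.1 h2
  have hlt : ∀ p q : X, q ⤳ p → p ≠ q → h p < h q := fun p q hpq hne =>
    Order.height_strictMono (lt_of_le_not_ge (Scheme.le_iff_specializes.2 hpq) fun h' =>
      hne ((inseparable_iff_specializes_and.2 ⟨Scheme.le_iff_specializes.1 h', hpq⟩).eq))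
      ((hle p).trans_lt (ENat.coe_lt_top g))
  have main : ∀ i : ℕ, ∃ (n : Fin i → ℕ) (s : ∀ j, Coh.structureModule X ⟶ CohB1.tensorPow L (n j + 1)),
      (∀ j, IsAffineOpen (CohB1.genLocus _ (s j)) ∧ genericPoint X ∈ CohB1.genLocus _ (s j)) ∧
      ∀ p, (∀ j, p ∉ CohB1.genLocus _ (s j)) → h p + i ≤ g := by
    intro i
    induction i with
    | zero => exact ⟨fun j => j.elim0, fun j => j.elim0, fun j => j.elim0, fun p _ => by simpa using hle p⟩
    | succ i ih =>
      obtain ⟨n, s, hs, hZ⟩ := ih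
      let Z : Set X := {p | ∀ j, p ∉ CohB1.genLocus _ (s j)}
      have hZc : IsClosed Z := by
        have : Z = ⋂ j, (CohB1.genLocus _ (s j) : Set X)ᶜ := by ext; simp [Z]
        rw [this]
        exact isClosed_iInter fun j => (Opens.isOpen _).isClosed_compl
      obtain ⟨C, hCf, hCc, hCi, hCe⟩ := NoetherianSpace.exists_finite_set_isClosed_irreducible hZc
      choose y hy using fun t : C => QuasiSober.sober (hCi t.1 t.2) (hCc t.1 t.2)
      haveI : Finite C := hCf.to_subtype
      obtain ⟨m, σ, hmem, -, haff⟩ := AmpleEmb.exists_genLocus_finite hL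
        ((Set.finite_range y).insert (genericPoint X)) (U := ⊤) (fun _ _ => trivial)
      refine ⟨Fin.cons m n, Fin.cons σ s, fun j => ?_, fun p hp => ?_⟩
      · cases j using Fin.cases with
        | zero => exact ⟨haff, hmem (Set.mem_insert _ _)⟩
        | succ j => exact hs j
      · have hpZ : p ∈ Z := fun j => hp j.succ
        obtain ⟨t, ht, hpt⟩ := Set.mem_sUnion.1 (hCe.subset hpZ)
        have hsp : y ⟨t, ht⟩ ⤳ p := (hy ⟨t, ht⟩).specializes hpt
        have hne : p ≠ y ⟨t, ht⟩ := fun e => hp 0 (hmem (Set.mem_insert_of_mem _ ⟨_, e.symm⟩))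
        have hyZ : y ⟨t, ht⟩ ∈ Z := hCe.symm.subset (Set.mem_sUnion.2 ⟨t, ht, (hy ⟨t, ht⟩).mem⟩)
        have h1 := hlt p _ hsp hne
        have h2 := hZ _ hyZ
        calc h p + ((i + 1 : ℕ) : ℕ∞) = h p + 1 + i := by push_cast; ring
          _ ≤ h (y ⟨t, ht⟩) + i := add_le_add (Order.add_one_le_of_lt h1) le_rfl
          _ ≤ g := h2
  obtain ⟨n, s, hs, hZ⟩ := main (g + 1)
  obtain ⟨D, hD⟩ : ∃ D, ∏ j, (n j + 1) = D + 1 :=
    Nat.exists_eq_succ_of_ne_zero (Finset.prod_pos fun j _ => Nat.succ_pos _).ne'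
  choose t ht using fun j => AmpleEmb.exists_raise hL.1 (D := D + 1) D.succ_pos
    (by rw [← hD]; exact Finset.dvd_prod_of_mem (fun j => n j + 1) (Finset.mem_univ j)) (s j)
  refine ⟨D, t, fun j => ?_, fun p => ?_, fun j => ?_⟩
  · rw [ht]; exact (hs j).1
  · by_contra hp
    push Not at hp
    have h1 := hZ p fun j => by rw [← ht]; exact hp j
    have h2 : ((g + 1 : ℕ) : ℕ∞) ≤ (g : ℕ∞) := (self_le_add_left _ _).trans h1
    have h3 : g + 1 ≤ g := by exact_mod_cast h2
    omega
  · rw [ht]; exact (hs j).2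

end Groth.Agent.AVLib.Deg
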